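import Groth.Agent.LoccohB.LTen
import Groth.Agent.LoccohB.LTenUnit
import Groth.Agent.LoccohB.RAdj
import Groth.Agent.PerfC.DInd
import Groth.Agent.PerfC.IsoLocus
import Groth.Agent.PerfB.RingKFlat
import Mathlib.CategoryTheory.Triangulated.Adjunction

/-!
# `LTensorCx A E` and `RHomCx E` are triangulated and `A`-linear

* `isTriang_LTensorCx`, `isTriang_RHomCx`, `isTriang_LBaseChange`, `isTriang_restrictD`;
* `lten_map_smul`, `rhom_map_smul`.
-/

set_option autoImplicit false

universe u

open CategoryTheory CategoryTheory.Limits MonoidalCategory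

attribute [local instance] HasDerivedCategory.standard

namespace K232.TriTen

open DerivedCategory Groth.Agent.LoccohB Groth.Agent.LoccohB.LTen Groth.Agent.PerfC.IsoLocus
  Groth.Agent.PerfC.DInd Groth.Agent.PerfB.RingKFlat

section Adj

universe v₁ v₂ u₁ u₂

variable {C : Type u₁} [Category.{v₁} C] [HasZeroObject C] [HasShift C ℤ] [Preadditive C]
  [∀ n : ℤ, (shiftFunctor C n).Additive] [Pretriangulated C]
  {D : Type u₂} [Category.{v₂} D] [HasZeroObject D] [HasShift D ℤ] [Preadditive D]
  [∀ n : ℤ, (shiftFunctor D n).Additive] [Pretriangulated D]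

/-- The right adjoint of a triangulated functor is triangulated. -/
theorem isTriang_rightAdjoint {F : C ⥤ D} {G : D ⥤ C} (adj : F ⊣ G) (hF : IsTriang F) :
    IsTriang G := by
  obtain ⟨_, _⟩ := hF
  let _ := adj.rightAdjointCommShift ℤ
  have := adj.commShift_of_leftAdjoint ℤ
  have := adj.isTriangulated_rightAdjoint
  exact IsTriang.mk' _

/-- The left adjoint of a triangulated functor is triangulated. -/
theorem isTriang_leftAdjoint {F : C ⥤ D} {G : D ⥤ C} (adj : F ⊣ G) (hG : IsTriang G) :
    IsTriang F := by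
  obtain ⟨_, _⟩ := hG
  let _ := adj.leftAdjointCommShift ℤ
  have := adj.commShift_of_rightAdjoint ℤ
  have := adj.isTriangulated_leftAdjoint
  exact IsTriang.mk' _

/-- The right adjoint of a linear functor is linear. -/
theorem linear_rightAdjoint (R : Type*) [Ring R] [Linear R C] [Linear R D] {F : C ⥤ D} {G : D ⥤ C}
    (adj : F ⊣ G) [F.Additive] [G.Additive] [F.Linear R] : G.Linear R where
  map_smul {X Y} f r := by
    apply (adj.homEquiv _ _).symm.injective
    rw [Adjunction.homEquiv_counit, Adjunction.homEquiv_counit, Functor.map_smul F,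
      Linear.smul_comp, Adjunction.counit_naturality, Adjunction.counit_naturality,
      Linear.comp_smul]

end Adj

variable {A : Type u} [CommRing A]

/-- `- ⊗ E` on complexes. -/
noncomputable abbrev tR (E : DRing.Cx A) : DRing.Cx A ⥤ DRing.Cx A :=
  (TR A).map₂CochainComplex.flip.obj E

instance presQis_tR (E : DRing.Cx A) [E.IsKProjective] : PresQis (tR E) where
  quasiIso_map f _ := quasiIso_whiskerRight E f

/-- `LTensorCx A E` is induced by `- ⊗ E` for `E` K-projective. -/
noncomputable def ltenIndIso (E : DRing.Cx A) [DRing.HasLTensorCx A E] [E.IsKProjective] :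
    DRing.LTensorCx A E ≅ ind (tR E) :=
  letI : Localization.Lifting Q (HomologicalComplex.quasiIso (ModuleCat.{u} A) (ComplexShape.up ℤ))
      (tensorRight E ⋙ Q) (DRing.LTensorCx A E) :=
    ⟨NatIso.ofComponents (fun K => ltenIso' E K) fun f => (ltenCounit E).naturality f⟩
  Localization.liftNatIso Q (HomologicalComplex.quasiIso (ModuleCat.{u} A) (ComplexShape.up ℤ))
    (tensorRight E ⋙ Q) (tR E ⋙ Q) _ _ (Iso.refl _)

/-- `- ⊗^L E` is a triangulated functor. -/
theorem isTriang_LTensorCx (E : DRing.Cx A) [DRing.HasLTensorCx A E] :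
    IsTriang (DRing.LTensorCx A E) := by
  obtain ⟨P, p, hP, hp, -, -⟩ := KProj.exists_kprojective E
  have := hasLTensorCx P
  exact ((IsTriang.mk' (ind (tR P))).of_iso (ltenIndIso P).symm).of_iso (asIso (ltenMap p))

/-- `RHom(E, -)` is a triangulated functor. -/
theorem isTriang_RHomCx (E : DRing.Cx A) [DRing.HasRHomCx E] : IsTriang (DRing.RHomCx E) :=
  have := hasLTensorCx E
  isTriang_rightAdjoint (ltenAdj E) (isTriang_LTensorCx E)

variable {B : Type u} [CommRing B]

theorem isTriang_restrictD (φ : A →+* B) : IsTriang (DRing.restrictD φ) :=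
  IsTriang.mk' _

theorem isTriang_LBaseChange (φ : A →+* B) [DRing.HasLBaseChange φ] : IsTriang (DRing.LBaseChange φ) :=
  isTriang_leftAdjoint (LBC.lbcAdj φ) (isTriang_restrictD φ)

section Linear

lemma lten_map_smul_id (E : DRing.Cx A) [DRing.HasLTensorCx A E] (a : A) (K : Dual.D A) :
    (DRing.LTensorCx A E).map (a • 𝟙 K) = a • 𝟙 ((DRing.LTensorCx A E).obj K) := by
  obtain ⟨P, hP, ⟨e⟩⟩ := exists_kproj K
  have key : (DRing.LTensorCx A E).map (a • 𝟙 (Q.obj P)) =
      a • 𝟙 ((DRing.LTensorCx A E).obj (Q.obj P)) := by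
    have h1 := ltenIso_naturality E (a • 𝟙 P)
    have h0 : (a • 𝟙 P) ▷ E = a • 𝟙 (P ⊗ E : DRing.Cx A) :=
      (LTenUnit.whiskerRight_smul a (𝟙 P) E).trans (by rw [id_whiskerRight])
    have h2 : Q.map (a • 𝟙 P) = a • 𝟙 (Q.obj P) := by
      rw [Functor.map_smul, CategoryTheory.Functor.map_id]
    have h3 : Q.map (a • 𝟙 (P ⊗ E : DRing.Cx A)) = a • 𝟙 (Q.obj (P ⊗ E : DRing.Cx A)) := by
      rw [Functor.map_smul, CategoryTheory.Functor.map_id]
    rw [h0, h2, h3] at h1
    rw [← cancel_mono (ltenIso E P).hom]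
    refine h1.trans ?_
    rw [Linear.smul_comp, Category.id_comp]
    exact (Linear.comp_smul _ _ _ _ _ _).trans (congrArg (fun z => a • z) (Category.comp_id _))
  have h4 : a • 𝟙 K = e.inv ≫ (a • 𝟙 (Q.obj P)) ≫ e.hom := by simp
  rw [h4, Functor.map_comp, Functor.map_comp, key, Linear.smul_comp, Linear.comp_smul,
    Category.id_comp, ← Functor.map_comp, e.inv_hom_id, CategoryTheory.Functor.map_id]

instance additive_lten (E : DRing.Cx A) [DRing.HasLTensorCx A E] : (DRing.LTensorCx A E).Additive :=
  (isTriang_LTensorCx E).additive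

instance additive_rhom (E : DRing.Cx A) [DRing.HasRHomCx E] : (DRing.RHomCx E).Additive :=
  (isTriang_RHomCx E).additive

instance linear_lten (E : DRing.Cx A) [DRing.HasLTensorCx A E] :
    (DRing.LTensorCx A E).Linear A where
  map_smul {X Y} f a := by
    have h : a • f = (a • 𝟙 X) ≫ f := by rw [Linear.smul_comp, Category.id_comp]
    rw [h, Functor.map_comp, lten_map_smul_id, Linear.smul_comp, Category.id_comp]

instance linear_rhom (E : DRing.Cx A) [DRing.HasRHomCx E] : (DRing.RHomCx E).Linear A :=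
  have := hasLTensorCx E
  linear_rightAdjoint A (ltenAdj E)

end Linear

end K232.TriTen
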