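import Groth.Agent.LoccohA.FlatExt
import Groth.Agent.LoccohB.DCalc
import Groth.Agent.LoccohB.LBC2
import Groth.Agent.LoccohB.RAdj
import Groth.Agent.LoccohB.InjRep
import Groth.Agent.LoccohB.DualShift
import Groth.Agent.LoccohB.DCompCrit

/-!
# Objects of `D(A)` on which `f` is invertible come from `D(A_f)`

* `exists_restrict_iso`: if `f` is bijective on the cohomology of `X`, then `X` is the restriction of an
  object of `D(A_f)`;
* `restrictInD`: restriction of a module in degree `0`;
* `subsingleton_restrict`: if there are no maps from (shifts of) `A_f` to `K`, there are no maps from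
  objects of `D(A_f)` to `K`.
-/

set_option autoImplicit false

universe u

open CategoryTheory CategoryTheory.Limits

attribute [local instance] HasDerivedCategory.standard

namespace K232.Inv

open DerivedCategory Groth.Agent.LoccohB

section NatTrans

universe v₁ v₂ u₁ u₂

variable {C : Type u₁} [Category.{v₁} C] [Abelian C] {D : Type u₂} [Category.{v₂} D] [Abelian D]

/-- A natural transformation of exact functors is a quasi-isomorphism on a complex as soon as it is an
isomorphism on its cohomology. -/
lemma quasiIso_mapHomologicalComplex {F G : C ⥤ D} [F.Additive] [G.Additive] [F.PreservesHomology]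
    [G.PreservesHomology] (τ : F ⟶ G) (L : CochainComplex C ℤ)
    (h : ∀ i, IsIso (τ.app (L.homology i))) :
    QuasiIso ((NatTrans.mapHomologicalComplex τ (ComplexShape.up ℤ)).app L) := by
  rw [quasiIso_iff]
  intro i
  rw [quasiIsoAt_iff_isIso_homologyMap]
  change IsIso (ShortComplex.homologyMap ((L.sc i).mapNatTrans τ))
  have h1 := NatTrans.app_homology τ (L.sc i)
  have h2 : ShortComplex.homologyMap ((L.sc i).mapNatTrans τ) =
      ((L.sc i).mapHomologyIso F).hom ≫ τ.app (L.sc i).homology ≫
        ((L.sc i).mapHomologyIso G).inv := by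
    rw [h1]
    simp
  rw [h2]
  have := h i
  change IsIso (τ.app (L.sc i).homology) at this
  infer_instance

end NatTrans

section Away

variable {A : Type u} [CommRing A]

/-- An object of `D(A)` on which `f` is invertible is the restriction of an object of `D(A_f)`. -/
theorem exists_restrict_iso (f : A) (X : Dual.D A)
    (h : ∀ i : ℤ, Function.Bijective (fun n : Dual.HD A X i => f • n)) :
    ∃ E : Dual.D (Localization.Away f),
      Nonempty ((DRing.restrictD (algebraMap A (Localization.Away f))).obj E ≅ X) := by
  let φ := algebraMap A (Localization.Away f)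
  let L := Q.objPreimage X
  let eX : Q.obj L ≅ X := Q.objObjPreimageIso X
  let F : ModuleCat.{u} A ⥤ ModuleCat.{u} A :=
    Groth.Agent.LoccohA.FlatExt.L φ ⋙ Groth.Agent.LoccohA.FlatExt.R φ
  let η : 𝟭 (ModuleCat.{u} A) ⟶ F := (Groth.Agent.LoccohA.FlatExt.adj φ).unit
  have hF : F.Additive := inferInstanceAs
    (Groth.Agent.LoccohA.FlatExt.L φ ⋙ Groth.Agent.LoccohA.FlatExt.R φ).Additive
  have hL1 : PreservesFiniteLimits (Groth.Agent.LoccohA.FlatExt.L φ) := inferInstance
  have hL2 : PreservesFiniteColimits (Groth.Agent.LoccohA.FlatExt.L φ) := inferInstance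
  have hF1 : PreservesFiniteLimits F := comp_preservesFiniteLimits _ _
  have hF2 : PreservesFiniteColimits F := comp_preservesFiniteColimits _ _
  have hη : ∀ i, IsIso (η.app (L.homology i)) := by
    intro i
    refine Groth.Agent.LoccohA.FlatExt.isIso_unit_away f (L.homology i) ?_
    let e : (L.homology i : ModuleCat.{u} A) ≅ (homologyFunctor (ModuleCat.{u} A) i).obj X :=
      ((homologyFunctorFactors (ModuleCat.{u} A) i).app L).symm ≪≫
        (homologyFunctor (ModuleCat.{u} A) i).mapIso eX
    have h1 : (fun n : L.homology i => f • n) =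
        e.toLinearEquiv.symm ∘ (fun n : Dual.HD A X i => f • n) ∘ e.toLinearEquiv := by
      funext n
      simp
    rw [h1]
    exact e.toLinearEquiv.symm.bijective.comp ((h i).comp e.toLinearEquiv.bijective)
  have hq := quasiIso_mapHomologicalComplex η L hη
  let E := Q.obj (((Groth.Agent.LoccohA.FlatExt.L φ).mapHomologicalComplex (ComplexShape.up ℤ)).obj L)
  refine ⟨E, ⟨?_⟩⟩
  let e1 : (DRing.restrictD φ).obj E ≅ Q.obj ((F.mapHomologicalComplex (ComplexShape.up ℤ)).obj L) :=
    (ModuleCat.restrictScalars.{u} φ).mapDerivedCategoryFactors.app _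
  exact e1 ≪≫ (asIso (Q.map ((NatTrans.mapHomologicalComplex η (ComplexShape.up ℤ)).app L))).symm ≪≫ eX

end Away

section Restrict

variable {B C : Type u} [CommRing B] [CommRing C] [Algebra B C]

/-- Restriction of scalars of `ModuleCat.of`. -/
noncomputable def restrictOf (M : Type u) [AddCommGroup M] [Module C M] [Module B M]
    [IsScalarTower B C M] :
    (ModuleCat.restrictScalars.{u} (algebraMap B C)).obj (ModuleCat.of C M) ≅ ModuleCat.of B M :=
  let e : ((ModuleCat.restrictScalars.{u} (algebraMap B C)).obj (ModuleCat.of C M)) ≃ₗ[B] M :=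
    { AddEquiv.refl M with
      map_smul' := fun b x => algebraMap_smul C b (show M from x) }
  e.toModuleIso

/-- Restriction of scalars of a module in degree zero. -/
noncomputable def restrictInD (M : Type u) [AddCommGroup M] [Module C M] [Module B M]
    [IsScalarTower B C M] :
    (DRing.restrictD (algebraMap B C)).obj (Dual.inD C M) ≅ Dual.inD B M :=
  ((ModuleCat.restrictScalars.{u} (algebraMap B C)).mapDerivedCategorySingleFunctor 0).app
    (ModuleCat.of C M) ≪≫ (singleFunctor (ModuleCat.{u} B) 0).mapIso (restrictOf M)

/-- If all maps `C ⟶ K[n]` in `D(B)` vanish, all maps from restrictions of objects of `D(C)` to `K` vanish. -/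
theorem subsingleton_restrict (K : Dual.D B) (h : ∀ n : ℤ, Subsingleton (Dual.inD B C ⟶ K⟦n⟧))
    (E : Dual.D C) : Subsingleton ((DRing.restrictD (algebraMap B C)).obj E ⟶ K) := by
  let adj := RAdj.coextAdj (algebraMap B C)
  have hz : IsZero ((RAdj.RCoext (algebraMap B C)).obj K) := by
    rw [DCalc.isZero_iff]
    intro i
    apply InjRep.isZero_homology_of_subsingleton
    let e := RAdj.shiftIso adj K i
    let e' := restrictInD (B := B) (C := C) C
    refine ⟨fun a b => ?_⟩
    rw [← cancel_mono e.inv]
    apply (adj.homEquiv _ _).symm.injective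
    rw [← cancel_epi e'.inv]
    exact (h i).elim _ _
  refine ⟨fun a b => ?_⟩
  apply (adj.homEquiv _ _).injective
  exact hz.eq_of_tgt _ _

end Restrict

section Complete

variable {A : Type u} [CommRing A]

/-- There are no maps from an object on which `f` is invertible to an object `K` such that there are no
maps from `A_f` to shifts of `K`. -/
theorem eq_zero_of_bijective (f : A) (X K : Dual.D A)
    (hX : ∀ i : ℤ, Function.Bijective (fun n : Dual.HD A X i => f • n))
    (h : ∀ n : ℤ, Subsingleton (Dual.inD A (Localization.Away f) ⟶ K⟦n⟧)) (u : X ⟶ K) : u = 0 := by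
  obtain ⟨E, ⟨e⟩⟩ := exists_restrict_iso f X hX
  have := subsingleton_restrict K h E
  rw [← cancel_epi e.hom]
  exact Subsingleton.elim _ _

/-- `f` invertible on an object is bijective on its cohomology. -/
lemma bijective_of_isIso (f : A) (X : Dual.D A) (hX : IsIso (f • 𝟙 X)) (i : ℤ) :
    Function.Bijective (fun n : Dual.HD A X i => f • n) := by
  have h1 : IsIso ((homologyFunctor (ModuleCat.{u} A) i).map (f • 𝟙 X)) := inferInstance
  rw [Functor.map_smul, CategoryTheory.Functor.map_id] at h1
  exact (ConcreteCategory.isIso_iff_bijective _).1 h1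

/-- `f` bijective on the cohomology of an object is invertible on it. -/
lemma isIso_of_bijective (f : A) (X : Dual.D A)
    (hX : ∀ i : ℤ, Function.Bijective (fun n : Dual.HD A X i => f • n)) : IsIso (f • 𝟙 X) := by
  rw [DerivedCategory.isIso_iff]
  intro i
  rw [Functor.map_smul, CategoryTheory.Functor.map_id]
  exact (ConcreteCategory.isIso_iff_bijective _).2 (hX i)

theorem eq_zero_of_isIso (f : A) (X K : Dual.D A) (hX : IsIso (f • 𝟙 X))
    (h : ∀ n : ℤ, Subsingleton (Dual.inD A (Localization.Away f) ⟶ K⟦n⟧)) (u : X ⟶ K) : u = 0 :=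
  eq_zero_of_bijective f X K (bijective_of_isIso f X hX) h u

end Complete

end K232.Inv
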