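import Groth.Agent.DRing.K232.TriTen
import Groth.Agent.DRing.K232.Inv
import Groth.Agent.S1814

/-!
# Left orthogonality to derived complete objects through iterated cones

`KV l X`: the iterated cone of the elements of `l` on `X` vanishes.
* `KV.map`: triangulated (semi)linear functors preserve `KV`;
* `kv_of_orth`: if `X` has no maps to `I`-complete objects then `KV l X` (`l` generating `I`);
* `orth_of_kv`: conversely, if `KV l X` with `l ⊆ I`, then `X` has no maps to `I`-complete objects;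
* `complete_rhom`: `RHom(K, Z)` is complete if `Z` is;
* `isRefl_rhom`: `RHom(K, L) ⟶ RHom(K, L^)` is a reflection.
-/

set_option autoImplicit false

universe u

open CategoryTheory CategoryTheory.Limits Pretriangulated

attribute [local instance] HasDerivedCategory.standard

namespace K232.KVan

open DerivedCategory Groth.Agent Groth.Agent.LoccohB Groth.Agent.LoccohB.GMAbs
  Groth.Agent.LoccohB.LTen Groth.Agent.PerfC.IsoLocus K232.TriTen

variable {A : Type u} [CommRing A]

/-- The iterated cone of the elements of `l` on `X` vanishes. -/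
def KV : List A → Dual.D A → Prop
  | [], X => IsZero X
  | f :: l, X => ∀ (Y : Dual.D A) (i : X ⟶ Y) (δ : Y ⟶ X⟦(1 : ℤ)⟧),
      Triangle.mk (f • 𝟙 X) i δ ∈ distTriang (Dual.D A) → KV l Y

lemma kv_of_iso (l : List A) : ∀ {X X' : Dual.D A} (_ : X ≅ X') (_ : KV l X), KV l X' := by
  induction l with
  | nil => exact fun e h => IsZero.of_iso h e.symm
  | cons f l ih =>
    intro X X' e h Y i δ hT
    refine h Y (e.hom ≫ i) (δ ≫ e.inv⟦1⟧') (isomorphic_distinguished _ hT _ ?_)
    refine Triangle.isoMk _ _ e e (Iso.refl _) ?_ ?_ ?_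
    · change (f • 𝟙 X) ≫ e.hom = e.hom ≫ (f • 𝟙 X')
      simp
    · change (e.hom ≫ i) ≫ 𝟙 Y = e.hom ≫ i
      simp
    · change (δ ≫ e.inv⟦1⟧') ≫ e.hom⟦1⟧' = 𝟙 Y ≫ δ
      rw [Category.assoc, ← Functor.map_comp, e.inv_hom_id, CategoryTheory.Functor.map_id,
        Category.comp_id, Category.id_comp]

/-- A triangulated functor compatible with the linear structures preserves `KV`. -/
lemma kv_map {B : Type u} [CommRing B] (φ : A → B) {F : Dual.D A ⥤ Dual.D B} (hF : IsTriang F)
    (hφ : ∀ (a : A) (X : Dual.D A), F.map (a • 𝟙 X) = φ a • 𝟙 (F.obj X)) (l : List A) :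
    ∀ {X : Dual.D A} (_ : KV l X), KV (l.map φ) (F.obj X) := by
  obtain ⟨_, _⟩ := hF
  induction l with
  | nil => exact fun h => F.map_isZero h
  | cons f l ih =>
    intro X h Y' i' δ' hT'
    obtain ⟨Y, i, δ, hT⟩ := exists_cone f X
    have h1 := F.map_distinguished _ hT
    obtain ⟨e, -, -⟩ := exists_iso_of_arrow_iso _ _ h1 hT'
      (Arrow.isoMk (Iso.refl _) (Iso.refl _) (by
        change 𝟙 _ ≫ (φ f • 𝟙 (F.obj X)) = F.map (f • 𝟙 X) ≫ 𝟙 _
        rw [Category.id_comp, Category.comp_id, hφ]))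
    exact kv_of_iso _ (Triangle.π₃.mapIso e) (ih (h Y i δ hT))

lemma kv_map_linear {F : Dual.D A ⥤ Dual.D A} (hF : IsTriang F) [F.Additive] [F.Linear A]
    (l : List A) {X : Dual.D A} (h : KV l X) : KV l (F.obj X) := by
  have h1 := kv_map id hF (fun a X => by
    rw [Functor.map_smul, CategoryTheory.Functor.map_id]; rfl) l h
  rwa [List.map_id] at h1

/-- An object without maps to `I`-complete objects has vanishing iterated cone for generators of `I`. -/
theorem kv_of_orth (I : Ideal A) (l₀ : List A) (hl₀ : Ideal.span {f | f ∈ l₀} = I) (l : List A) :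
    ∀ (_ : ∀ f ∈ l, f ∈ l₀) (X : Dual.D A) (_ : ∀ f ∈ l₀, f ∈ l ∨ Nil f X)
      (_ : ∀ Z, DRing.IsDerivedComplete I Z → Orth X Z), KV l X := by
  induction l with
  | nil =>
    intro _ X hl hX
    have hN : DRing.IsDerivedComplete I X :=
      S1814.complete_of_nil I l₀ hl₀ X fun f hf => by simpa using hl f hf
    rw [KV, IsZero.iff_id_eq_zero]
    exact hX X hN _
  | cons f l ih =>
    intro hsub X hl hX Y i δ hT
    refine ih (fun g hg => hsub g (List.mem_cons_of_mem _ hg)) Y ?_ ?_
    · intro g hg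
      rcases hl g hg with h | h
      · rcases List.mem_cons.mp h with rfl | h
        · exact Or.inr (nil_cone_self g X Y i δ hT)
        · exact Or.inl h
      · exact Or.inr (nil_cone_of_nil f g X Y i δ hT h)
    · intro Z hZ u
      obtain ⟨w, hw⟩ := Triangle.yoneda_exact₃ _ hT u (hX Z hZ _)
      have hw0 : w = 0 := orth_shift_left 1 (-1) (by simp)
        (hX _ (S1814.complete_shift I Z (-1) hZ)) w
      exact zero_right hw hw0

section Lin

universe v₁ v₂ u₁ u₂

variable {C : Type u₁} [Category.{v₁} C] [Preadditive C] [Linear A C]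
  {D : Type u₂} [Category.{v₂} D] [Preadditive D] [Linear A D]

/-- The linear bijection of an adjunction whose left adjoint is linear. -/
noncomputable def adjLin {F : C ⥤ D} {G : D ⥤ C} (adj : F ⊣ G) [F.Additive] [F.Linear A]
    (X : C) (Y : D) : (X ⟶ G.obj Y) ≃ₗ[A] (F.obj X ⟶ Y) where
  toEquiv := (adj.homEquiv X Y).symm
  map_add' f g := by
    change (adj.homEquiv X Y).symm (f + g) = (adj.homEquiv X Y).symm f + (adj.homEquiv X Y).symm g
    simp only [Adjunction.homEquiv_counit, Functor.map_add, Preadditive.add_comp]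
  map_smul' a f := by
    change (adj.homEquiv X Y).symm (a • f) = a • (adj.homEquiv X Y).symm f
    simp only [Adjunction.homEquiv_counit, Functor.map_smul, Linear.smul_comp]

lemma bijective_smul_of_equiv {M N : Type*} [AddCommGroup M] [Module A M] [AddCommGroup N]
    [Module A N] (e : M ≃ₗ[A] N) (f : A) (h : Function.Bijective (fun n : N => f • n)) :
    Function.Bijective (fun m : M => f • m) := by
  have h1 : (fun m : M => f • m) = e.symm ∘ (fun n : N => f • n) ∘ e := by
    funext m
    simp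
  rw [h1]
  exact e.symm.bijective.comp (h.comp e.bijective)

end Lin

/-- `f` is invertible on `A_f[0]`. -/
lemma isIso_smul_away (f : A) : IsIso (f • 𝟙 (Dual.inD A (Localization.Away f))) := by
  have h0 : IsIso (f • 𝟙 (ModuleCat.of A (Localization.Away f))) := by
    refine (ConcreteCategory.isIso_iff_bijective _).2 ?_
    change Function.Bijective (fun x : Localization.Away f => f • x)
    have h := IsLocalization.Away.algebraMap_isUnit (S := Localization.Away f) f
    have h2 : (fun x : Localization.Away f => f • x) = fun x => h.unit • x := by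
      funext x
      rw [Algebra.smul_def]
      rfl
    rw [h2]
    exact MulAction.bijective h.unit
  have h1 : f • 𝟙 (Dual.inD A (Localization.Away f)) =
      (DerivedCategory.singleFunctor (ModuleCat.{u} A) 0).map
        (f • 𝟙 (ModuleCat.of A (Localization.Away f))) := by
    rw [Functor.map_smul, CategoryTheory.Functor.map_id]
  rw [h1]
  infer_instance

/-- `RHom(K, Z)` is derived complete if `Z` is. -/
theorem complete_rhom (I : Ideal A) (K : DRing.Cx A) [DRing.HasRHomCx K] (Z : Dual.D A)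
    (hZ : DRing.IsDerivedComplete I Z) : DRing.IsDerivedComplete I ((DRing.RHomCx K).obj Z) := by
  intro f hf n
  have := hasLTensorCx K
  obtain ⟨_, _⟩ := isTriang_RHomCx K
  have h1 := isIso_smul_away f
  refine subsingleton_of_forall_eq 0 fun u => ?_
  rw [← cancel_mono (((DRing.RHomCx K).commShiftIso n).inv.app Z), zero_comp]
  apply (adjLin (A := A) (ltenAdj K) _ _).injective
  rw [map_zero]
  refine Inv.eq_zero_of_isIso f _ _ ?_ (fun m => S1814.complete_shift I Z n hZ f hf m) _
  rw [← lten_map_smul_id]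
  infer_instance

/-- `H⁰(RHom(K, Z)) = Hom(K, Z)`. -/
noncomputable def rhomZero (K : DRing.Cx A) [DRing.HasRHomCx K] (Z : Dual.D A) :
    Dual.HD A ((DRing.RHomCx K).obj Z) 0 ≃ₗ[A] (DRing.toD K ⟶ Z) :=
  have := hasLTensorCx K
  (DBase.homEquivHD 0 _).symm ≪≫ₗ adjLin (A := A) (ltenAdj K) _ _ ≪≫ₗ
    Linear.homCongr A (LTenUnit.ltenSg K 0 ≪≫
      (shiftFunctorZero' (Dual.D A) (-0 : ℤ) (by simp)).app _) (Iso.refl _)

/-- `Hⁱ(RHom(K, Z)) = Hom(K, Z[i])`. -/
theorem nonempty_rhomH (K : DRing.Cx A) [DRing.HasRHomCx K] (Z : Dual.D A) (i : ℤ) :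
    Nonempty (Dual.HD A ((DRing.RHomCx K).obj Z) i ≃ₗ[A] (DRing.toD K ⟶ Z⟦i⟧)) := by
  obtain ⟨_, _⟩ := isTriang_RHomCx K
  exact ⟨(DualShift.shiftHD ((DRing.RHomCx K).obj Z) i 0 i (by simp)).symm.toLinearEquiv ≪≫ₗ
    ((DerivedCategory.homologyFunctor (ModuleCat.{u} A) 0).mapIso
      (((DRing.RHomCx K).commShiftIso i).app Z)).symm.toLinearEquiv ≪≫ₗ rhomZero K (Z⟦i⟧)⟩

/-- If the iterated cone of `l ⊆ I` on `X` vanishes, `X` has no maps to `I`-complete objects. -/
theorem orth_of_kv (I : Ideal A) (l : List A) : ∀ (_ : ∀ f ∈ l, f ∈ I) (X : Dual.D A) (_ : KV l X)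
    (Z : Dual.D A) (_ : DRing.IsDerivedComplete I Z), Orth X Z := by
  induction l with
  | nil => exact fun _ X hX Z _ u => IsZero.eq_of_src hX _ _
  | cons f l ih =>
    intro hl X hX Z hZ
    obtain ⟨Y, i, δ, hT⟩ := exists_cone f X
    have hY := ih (fun g hg => hl g (List.mem_cons_of_mem _ hg)) Y (hX Y i δ hT)
    have hbij : ∀ Z : Dual.D A, DRing.IsDerivedComplete I Z →
        Function.Bijective (fun u : X ⟶ Z => f • u) := by
      intro Z hZ
      have h0 : (fun u : X ⟶ Z => f • u) = fun u => (f • 𝟙 X) ≫ u := by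
        funext u
        rw [Linear.smul_comp, Category.id_comp]
      rw [h0]
      constructor
      · intro x y hxy
        dsimp only at hxy
        rw [← sub_eq_zero, ← Preadditive.comp_sub] at hxy
        obtain ⟨w, hw⟩ := Triangle.yoneda_exact₂ _ hT _ hxy
        rw [← sub_eq_zero]
        exact zero_right hw (hY Z hZ w)
      · intro x
        obtain ⟨w, hw⟩ := Triangle.yoneda_exact₂ _ (inv_rot_of_distTriang _ hT) x
          (orth_shift_left (-1) 1 (by simp) (hY _ (S1814.complete_shift I Z 1 hZ)) _)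
        exact ⟨w, hw.symm⟩
    -- a complex representing `X`
    let K := Q.objPreimage X
    let e : DRing.toD K ≅ X := Q.objObjPreimageIso X
    have := RHomVal.hasRHomCx K
    have hH : IsIso (f • 𝟙 ((DRing.RHomCx K).obj Z)) := by
      apply Inv.isIso_of_bijective
      intro i
      obtain ⟨E⟩ := nonempty_rhomH K Z i
      exact bijective_smul_of_equiv (E ≪≫ₗ Linear.homCongr A e (Iso.refl _)) f
        (hbij _ (S1814.complete_shift I Z i hZ))
    have h1 := complete_rhom I K Z hZ
    have h2 : IsZero ((DRing.RHomCx K).obj Z) := by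
      rw [IsZero.iff_id_eq_zero]
      exact Inv.eq_zero_of_isIso f _ _ hH (h1 f (hl f List.mem_cons_self)) _
    intro u
    have h3 : IsZero ((DerivedCategory.homologyFunctor (ModuleCat.{u} A) 0).obj
        ((DRing.RHomCx K).obj Z)) := Functor.map_isZero _ h2
    have h4 : Subsingleton (Dual.HD A ((DRing.RHomCx K).obj Z) 0) :=
      ModuleCat.subsingleton_of_isZero h3
    have h5 : e.hom ≫ u = 0 := (rhomZero K Z).symm.injective (Subsingleton.elim _ _)
    rw [← cancel_epi e.hom, h5, comp_zero]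

/-- Characterization of the objects without maps to complete objects. -/
theorem orth_iff_kv (I : Ideal A) (l : List A) (hl : Ideal.span {f | f ∈ l} = I) (X : Dual.D A) :
    (∀ Z, DRing.IsDerivedComplete I Z → Orth X Z) ↔ KV l X :=
  ⟨fun h => kv_of_orth I l hl l (fun _ h => h) X (fun _ hf => Or.inl hf) h,
    fun h Z hZ => orth_of_kv I l (fun f hf => by
      rw [← hl]; exact Ideal.subset_span hf) X h Z hZ⟩

section Refl

variable (I : Ideal A)

/-- The cone of a reflection is left orthogonal to complete objects. -/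
theorem orth_cone_of_isRefl {K LK C : Dual.D A} {η : K ⟶ LK} {g : LK ⟶ C} {δ : C ⟶ K⟦(1 : ℤ)⟧}
    (hT : Triangle.mk η g δ ∈ distTriang (Dual.D A))
    (hη : IsRefl (DRing.IsDerivedComplete I) η) (Z : Dual.D A) (hZ : DRing.IsDerivedComplete I Z) :
    Orth C Z := by
  intro u
  have h0 : η ≫ g = 0 := comp_distTriang_mor_zero₁₂ _ hT
  have h1 : g ≫ u = 0 := by
    apply hη.ext Z hZ
    rw [← Category.assoc, h0, zero_comp, comp_zero]
  obtain ⟨w, hw⟩ := Triangle.yoneda_exact₃ _ hT u h1
  change K⟦(1 : ℤ)⟧ ⟶ Z at w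
  change u = δ ≫ w at hw
  have h2 : ∃ w' : LK⟦(1 : ℤ)⟧ ⟶ Z, (shiftFunctor (Dual.D A) (1 : ℤ)).map η ≫ w' = w := by
    let e : Z⟦(-1 : ℤ)⟧⟦(1 : ℤ)⟧ ≅ Z :=
      (shiftFunctorCompIsoId (Dual.D A) (-1 : ℤ) 1 (by simp)).app Z
    obtain ⟨w₁, hw₁⟩ := (shiftFunctor (Dual.D A) (1 : ℤ)).map_surjective (w ≫ e.inv)
    obtain ⟨w₂, hw₂⟩ := hη.exists_desc _ (S1814.complete_shift I Z (-1) hZ) w₁
    refine ⟨(shiftFunctor (Dual.D A) (1 : ℤ)).map w₂ ≫ e.hom, ?_⟩
    rw [← Category.assoc, ← Functor.map_comp, hw₂, hw₁, Category.assoc, e.inv_hom_id,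
      Category.comp_id]
  obtain ⟨w', hw'⟩ := h2
  have h3 : δ ≫ (shiftFunctor (Dual.D A) (1 : ℤ)).map η = 0 := comp_distTriang_mor_zero₃₁ _ hT
  rw [hw, ← hw', ← Category.assoc, h3, zero_comp]

/-- A morphism to a complete object whose cone is left orthogonal to complete objects is a reflection. -/
theorem isRefl_of_orth_cone {K N C : Dual.D A} {φ : K ⟶ N} {g : N ⟶ C} {δ : C ⟶ K⟦(1 : ℤ)⟧}
    (hT : Triangle.mk φ g δ ∈ distTriang (Dual.D A)) (hN : DRing.IsDerivedComplete I N)
    (hC : ∀ Z, DRing.IsDerivedComplete I Z → Orth C Z) : IsRefl (DRing.IsDerivedComplete I) φ := by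
  refine ⟨hN, ?_, ?_⟩
  · intro Z hZ u
    have hT' := inv_rot_of_distTriang _ hT
    obtain ⟨w, hw⟩ := Triangle.yoneda_exact₂ _ hT' u
      (orth_shift_left (-1) 1 (by simp) (hC _ (S1814.complete_shift I Z 1 hZ)) _)
    exact ⟨w, hw.symm⟩
  · intro Z hZ v w hvw
    rw [← sub_eq_zero]
    have h1 : φ ≫ (v - w) = 0 := by
      rw [Preadditive.comp_sub]; exact sub_eq_zero.mpr hvw
    obtain ⟨s, hs⟩ := Triangle.yoneda_exact₂ _ hT (v - w) h1
    change C ⟶ Z at s
    exact zero_right hs (hC Z hZ s)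

/-- A reflection gives bijections on maps to complete objects. -/
theorem bijective_of_isRefl {K N : Dual.D A} {φ : K ⟶ N}
    (h : IsRefl (DRing.IsDerivedComplete I) φ) (E : Dual.D A) (hE : DRing.IsDerivedComplete I E) :
    Function.Bijective (fun ψ : N ⟶ E => φ ≫ ψ) :=
  ⟨fun v w hvw => h.ext E hE v w hvw, fun u => h.exists_desc E hE u⟩

/-- A linear triangulated functor preserving complete objects preserves reflections, for `I` finitely
generated. -/
theorem isRefl_map (hI : I.FG) {F : Dual.D A ⥤ Dual.D A} (hF : IsTriang F) [F.Additive] [F.Linear A]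
    {K N : Dual.D A} {φ : K ⟶ N} (h : IsRefl (DRing.IsDerivedComplete I) φ)
    (hN : DRing.IsDerivedComplete I (F.obj N)) : IsRefl (DRing.IsDerivedComplete I) (F.map φ) := by
  obtain ⟨s, hs⟩ := hI
  have hl : Ideal.span {f | f ∈ s.toList} = I := by
    rw [← hs]
    congr 1
    ext f
    simp
  obtain ⟨C, g, δ, hT⟩ := distinguished_cocone_triangle φ
  have h1 := (orth_iff_kv I s.toList hl C).1 (fun Z hZ => orth_cone_of_isRefl I hT h Z hZ)
  have h2 := kv_map_linear hF s.toList h1
  obtain ⟨_, _⟩ := hF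
  exact isRefl_of_orth_cone I (F.map_distinguished _ hT) hN ((orth_iff_kv I s.toList hl _).2 h2)

end Refl

end K232.KVan
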