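import Groth.Agent.DRing.K232.KFlatTen
import Groth.Agent.DRing.K232.KVan
import Groth.Agent.DRing.K226.KFlatSymm
import Groth.Agent.DRing.K226.PCRing
import Groth.Agent.DRing.K229.PerfInd
import Groth.Agent.DRing.K230.DCLink
import Groth.Agent.DRing.K231.Amp

/-!
# Derived completeness of tensor products with pseudo-coherent objects

* `isLE_lten`: `K ∈ D^{≤ b}`, `E ∈ D^{≤ c}` imply `K ⊗ᴸ E ∈ D^{≤ b + c}`.
* `complete_lten_of_isPerfect`: `G = - ⊗ᴸ X`, `X` derived complete: `G(E)` is derived complete for `E` perfect.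
* `complete_lten_of_pc`: the same for `E` pseudo-coherent if `X` is bounded above.
* `complete_lten`: `K` derived complete and bounded above, `F` bounded above finite free: `K ⊗ᴸ F` is derived complete.
-/

set_option autoImplicit false

universe u

open CategoryTheory CategoryTheory.Limits CategoryTheory.Pretriangulated CategoryTheory.MonoidalCategory

attribute [local instance] HasDerivedCategory.standard

namespace K232.ComplTen

open DerivedCategory Groth.Agent.LoccohB Groth.Agent.LoccohB.LTen Groth.Agent.PerfC.IsoLocus K232.TriTen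
  K232.KVan K232.KFlatTen

variable {A : Type u} [CommRing A]

/-- `K ∈ D^{≤ b}`, `E ∈ D^{≤ c}` imply `K ⊗ᴸ E ∈ D^{≤ b + c}`. -/
theorem isLE_lten (E : DRing.Cx A) [DRing.HasLTensorCx A E] (K : Dual.D A) (b c : ℤ) (hK : K.IsLE b)
    (hE : (DRing.toD E).IsLE c) : ((DRing.LTensorCx A E).obj K).IsLE (b + c) := by
  have := RHomVal.hasRHomCx E
  have key : TStructure.t.IsLE ((DRing.LTensorCx A E).obj K) (b + c) := by
    rw [TStructure.t.isLE_iff_orthogonal (b + c) (b + c + 1) rfl]
    intro Z f hZ
    apply ((ltenAdj E).homEquiv _ _).injective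
    refine TStructure.t.zero_of_isLE_of_isGE _ b (b + 1) (by omega) hK ?_ |>.trans ?_
    · change ((DRing.RHomCx E).obj Z).IsGE (b + 1)
      rw [DerivedCategory.isGE_iff]
      intro i hi
      obtain ⟨e⟩ := nonempty_rhomH E Z i
      have h1 : Subsingleton (DRing.toD E ⟶ Z⟦i⟧) := subsingleton_of_forall_eq 0 fun g => by
        have h2 : TStructure.t.IsGE (Z⟦i⟧) (c + 1) := by
          have := TStructure.t.isGE_shift Z (b + c + 1) i (b + c + 1 - i) (by omega)
          exact TStructure.t.isGE_of_ge _ (c + 1) (b + c + 1 - i) (by omega)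
        exact TStructure.t.zero_of_isLE_of_isGE g c (c + 1) (by omega) hE h2
      have h3 : Subsingleton (Dual.HD A ((DRing.RHomCx E).obj Z) i) := e.toEquiv.subsingleton
      exact @ModuleCat.isZero_of_subsingleton _ _ _ h3
    · rw [Adjunction.homEquiv_apply]
      simp
  exact key

section Complete

variable (I : Ideal A)

lemma complete_of_retract {X Y : Dual.D A} (i : X ⟶ Y) (r : Y ⟶ X) (h : i ≫ r = 𝟙 X)
    (hY : DRing.IsDerivedComplete I Y) : DRing.IsDerivedComplete I X := by
  intro f hf n
  have := hY f hf n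
  refine subsingleton_of_forall_eq 0 fun g => ?_
  have h1 : g ≫ i⟦n⟧' = 0 := Subsingleton.elim _ _
  have h2 : g = (g ≫ i⟦n⟧') ≫ r⟦n⟧' := by
    rw [Category.assoc, ← Functor.map_comp, h, CategoryTheory.Functor.map_id, Category.comp_id]
  rw [h2, h1, zero_comp]

variable (X : DRing.Cx A) [DRing.HasLTensorCx A X]

/-- The objects `L` with `L ⊗ᴸ X` derived complete. -/
def PC : ObjectProperty (Dual.D A) := fun L => DRing.IsDerivedComplete I ((DRing.LTensorCx A X).obj L)

instance : (PC I X).IsClosedUnderIsomorphisms where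
  of_iso e h := K231.Orth.complete_of_iso I ((DRing.LTensorCx A X).mapIso e) h

/-- `A ⊗ᴸ X ≅ X`. -/
lemma nonempty_lten_self : Nonempty ((DRing.LTensorCx A X).obj (Dual.inD A A) ≅ DRing.toD X) :=
  ⟨(DRing.LTensorCx A X).mapIso ((singleFunctorIsoCompQ (ModuleCat.{u} A) 0).app (ModuleCat.of A A)) ≪≫
    Groth.Agent.LoccohB.LTenUnit.ltenSg X 0 ≪≫ (shiftFunctorZero' (Dual.D A) (-0 : ℤ) (by simp)).app _⟩

/-- `L ⊗ᴸ X` is derived complete for `L` perfect and `X` derived complete. -/
theorem complete_lten_of_isPerfect (hX : DRing.IsDerivedComplete I (DRing.toD X)) (L : Dual.D A)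
    (hL : DRing.IsPerfect A L) : DRing.IsDerivedComplete I ((DRing.LTensorCx A X).obj L) := by
  obtain ⟨cs, ht⟩ := isTriang_LTensorCx X
  let _ := cs
  have := ht
  refine K229.PerfInd.prop_of_isPerfect (PC I X) ?_ ?_ ?_ ?_ L hL
  · obtain ⟨e⟩ := nonempty_lten_self X
    exact K231.Orth.complete_of_iso I e.symm hX
  · intro K n hK
    exact K231.Orth.complete_of_iso I (((DRing.LTensorCx A X).commShiftIso n).app K).symm
      (K231.Orth.complete_shift I _ n hK)
  · intro T hT h₁ h₃
    have hT' := (DRing.LTensorCx A X).map_distinguished T hT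
    exact K231.Orth.complete_obj₂ I hT' h₁ h₃
  · intro K L _ h
    refine complete_of_retract I ((DRing.LTensorCx A X).map (biprod.inl : K ⟶ K ⊞ L))
      ((DRing.LTensorCx A X).map (biprod.fst : K ⊞ L ⟶ K)) ?_ h
    rw [← Functor.map_comp, biprod.inl_fst, CategoryTheory.Functor.map_id]

/-- `L ⊗ᴸ X` is derived complete for `L` pseudo-coherent and `X` derived complete and bounded above. -/
theorem complete_lten_of_pc (hX : DRing.IsDerivedComplete I (DRing.toD X)) (b : ℤ)
    (hb : (DRing.toD X).IsLE b) (L : Dual.D A)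
    (hL : DRing.IsPseudoCoherent' A L) : DRing.IsDerivedComplete I ((DRing.LTensorCx A X).obj L) := by
  obtain ⟨cs, ht⟩ := isTriang_LTensorCx X
  let _ := cs
  have := ht
  rw [K230.DCLink.isDerivedComplete_iff]
  intro f hf n
  obtain ⟨E, a, c, α, h1, h2, h3, h4⟩ :=
    (K226.PCRing.isPseudoCoherent'_iff L).1 hL (n - b - 1)
  obtain ⟨C, g, δ, hT⟩ := distinguished_cocone_triangle α
  have hC : C.IsLE (n - b - 2) := by
    have := K231.Amp.isLE_cone hT (n - b - 1) (fun i hi => by
      have := h3 i hi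
      infer_instance) (fun i hi => by
        obtain hi | rfl := hi.lt_or_eq
        · have := h3 i hi
          infer_instance
        · exact h4)
    exact TStructure.t.isLE_of_le C (n - b - 1 - 1) (n - b - 2) (by omega)
  have hGC := isLE_lten X C (n - b - 2) b hC hb
  rw [DerivedCategory.isLE_iff] at hGC
  have hT' := (DRing.LTensorCx A X).map_distinguished _ hT
  have he : Epi ((DerivedCategory.homologyFunctor (ModuleCat.{u} A) n).map ((DRing.LTensorCx A X).map α)) :=
    K231.Amp.epi_of_cone hT' n (hGC n (by omega))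
  have hm : Mono ((DerivedCategory.homologyFunctor (ModuleCat.{u} A) n).map ((DRing.LTensorCx A X).map α)) :=
    K231.Amp.mono_of_cone hT' (n - 1) n (by omega) (hGC (n - 1) (by omega))
  have hi := isIso_of_mono_of_epi ((DerivedCategory.homologyFunctor (ModuleCat.{u} A) n).map
    ((DRing.LTensorCx A X).map α))
  have hE : DRing.IsPerfect A (DRing.toD E) := ⟨E, a, c, h1, fun i => by
    obtain ⟨h5, h6⟩ := h2 i
    exact ⟨h5, inferInstance⟩, ⟨Iso.refl _⟩⟩
  have hc := complete_lten_of_isPerfect I X hX _ hE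
  rw [K230.DCLink.isDerivedComplete_iff] at hc
  exact K230.DCSeq.DC.of_equiv (hc f hf n) (asIso ((DerivedCategory.homologyFunctor (ModuleCat.{u} A) n).map
    ((DRing.LTensorCx A X).map α))).toLinearEquiv

end Complete

/-- Symmetry of the derived tensor product: `X ⊗ᴸ F ≅ F ⊗ᴸ X` for `X` K-projective and `F` K-flat. -/
lemma nonempty_lten_symm (F X : DRing.Cx A) [DRing.HasLTensorCx A F] [DRing.HasLTensorCx A X] [X.IsKProjective]
    (hF : DRing.IsKFlat A F) :
    Nonempty ((DRing.LTensorCx A F).obj (DRing.toD X) ≅ (DRing.LTensorCx A X).obj (DRing.toD F)) := by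
  have := isIso_counit_of_kflat_left X F hF
  exact ⟨ltenIso F X ≪≫ Q.mapIso (K226.KFlat.tensorSymm X F) ≪≫ (asIso ((ltenCounit X).app F)).symm⟩

/-- `K ⊗ᴸ F` is derived complete if `K` is derived complete and bounded above and `F` is a bounded above complex
of finite free modules. -/
theorem complete_lten (I : Ideal A) (F : DRing.Cx A) (c : ℤ) (hFc : DRing.VanishesAbove F c)
    (hFf : DRing.TermwiseFiniteFree F) [DRing.HasLTensorCx A F] (K : Dual.D A)
    (hK : DRing.IsDerivedComplete I K) (b : ℤ) (hb : K.IsLE b) :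
    DRing.IsDerivedComplete I ((DRing.LTensorCx A F).obj K) := by
  obtain ⟨X, hX, ⟨e⟩⟩ := exists_kproj K
  have : DRing.HasLTensorCx A X := LTen.hasLTensorCx X
  have hF : DRing.IsKFlat A F := isKFlat_of_vanishesAbove F (fun i => by
    obtain ⟨h5, h6⟩ := hFf i
    infer_instance) hFc
  obtain ⟨s⟩ := nonempty_lten_symm F X hF
  have h1 : DRing.IsDerivedComplete I (DRing.toD X) := K231.Orth.complete_of_iso I e.symm hK
  have h2 : (DRing.toD X).IsLE b := TStructure.t.isLE_of_iso e.symm b
  have h3 := complete_lten_of_pc I X h1 b h2 (DRing.toD F) ⟨F, c, hFc, hFf, ⟨Iso.refl _⟩⟩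
  exact K231.Orth.complete_of_iso I (s.symm ≪≫ (DRing.LTensorCx A F).mapIso e) h3

end K232.ComplTen
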