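import Mathlib.Algebra.Homology.HomotopyCategory.KProjective
import Mathlib.Algebra.Homology.HomotopyCategory.MappingCone
import Mathlib.Algebra.Homology.HomologicalComplexAbelian
import Mathlib.Algebra.Homology.HomologySequenceLemmas
import Groth.Agent.PerfC.AcyclicBdd
import Groth.Agent.CohtopA.TrivCof

/-!
# Quasi-isomorphic bounded complexes of projectives become isomorphic after adding contractible complexes

* `exists_section`: an epimorphism (in a short exact sequence) onto a contractible complex of projectives splits.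
* `exists_iso`: `φ : M ⟶ N` a quasi-isomorphism of bounded complexes of projectives; then
  `M ⊞ Z ≅ N ⊞ cone(𝟙 M)` with `Z` contractible bounded with projective terms.
-/

set_option autoImplicit false

universe v u

open CategoryTheory Category Limits HomologicalComplex CochainComplex CochainComplex.HomComplex

namespace K232.ContrSplit

variable {C : Type u} [Category.{v} C] [Abelian C]

/-- A short exact sequence whose third term is a contractible complex of projectives splits. -/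
theorem exists_section (S : ShortComplex (CochainComplex C ℤ)) (hS : S.ShortExact)
    (hP : ∀ i, Projective (S.X₃.X i)) (h : Homotopy (𝟙 S.X₃) 0) : ∃ s : S.X₃ ⟶ S.X₂, s ≫ S.g = 𝟙 S.X₃ := by
  have hepi : ∀ i, Epi (S.g.f i) := fun i =>
    (hS.map_of_exact (HomologicalComplex.eval C (ComplexShape.up ℤ) i)).epi_g
  let z : Cochain S.X₃ S.X₃ (-1) := Cochain.ofHomotopy h
  have hz : δ (-1) 0 z = Cochain.ofHom (𝟙 S.X₃) := by
    have := δ_ofHomotopy h
    rwa [Cochain.ofHom_zero, sub_zero] at this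
  let s₀ : Cochain S.X₃ S.X₂ 0 := Cochain.ofHoms (fun i => Projective.factorThru (𝟙 (S.X₃.X i)) (S.g.f i))
  have hs₀ : s₀.comp (Cochain.ofHom S.g) (add_zero 0) = Cochain.ofHom (𝟙 S.X₃) := by
    ext p
    rw [Cochain.comp_zero_cochain_v, Cochain.ofHoms_v, Cochain.ofHom_v, Cochain.ofHom_v,
      Projective.factorThru_comp]
    rfl
  let w : Cochain S.X₃ S.X₂ (-1) := z.comp s₀ (add_zero (-1))
  have hw : w.comp (Cochain.ofHom S.g) (add_zero (-1)) = z := by
    dsimp only [w]
    rw [Cochain.comp_assoc_of_third_is_zero_cochain, hs₀, Cochain.comp_id]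
  let s : S.X₃ ⟶ S.X₂ := Cocycle.homOf (Cocycle.mk (δ (-1) 0 w) 1 (by simp) (by rw [δ_δ]))
  have hs : Cochain.ofHom s = δ (-1) 0 w := by
    dsimp only [s]
    rw [Cocycle.cochain_ofHom_homOf_eq_coe]
    rfl
  refine ⟨s, ?_⟩
  apply Cochain.ofHom_injective
  rw [Cochain.ofHom_comp, hs, ← δ_comp_ofHom, hw, hz]

/-- A bounded above acyclic complex of projectives is contractible. -/
lemma nonempty_contraction (Z : CochainComplex C ℤ) (b : ℤ) (hb : ∀ i, b < i → IsZero (Z.X i))
    (hP : ∀ i, Projective (Z.X i)) (hZ : Z.Acyclic) : Nonempty (Homotopy (𝟙 Z) 0) := by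
  have : Z.IsStrictlyLE b := by
    rw [isStrictlyLE_iff]
    exact hb
  have : Z.IsKProjective := isKProjective_of_projective Z b
  exact ⟨IsKProjective.homotopyZero (𝟙 Z) hZ⟩

section

variable {M N : CochainComplex C ℤ} (φ : M ⟶ N)

/-- The inclusion `M ⟶ N ⊞ cone(𝟙 M)`. -/
noncomputable abbrev incl : M ⟶ N ⊞ mappingCone (𝟙 M) := biprod.lift φ (mappingCone.inr (𝟙 M))

/-- Termwise retraction of `incl`. -/
noncomputable abbrev retr (i : ℤ) : (N ⊞ mappingCone (𝟙 M)).X i ⟶ M.X i :=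
  (biprod.snd : N ⊞ mappingCone (𝟙 M) ⟶ _).f i ≫ (mappingCone.snd (𝟙 M)).v i i (add_zero i)

lemma incl_retr (i : ℤ) : (incl φ).f i ≫ retr (M := M) (N := N) i = 𝟙 _ := by
  rw [← Category.assoc, ← HomologicalComplex.comp_f, biprod.lift_snd, mappingCone.inr_f_snd_v]

instance mono_incl_f (i : ℤ) : Mono ((incl φ).f i) := mono_of_mono_fac (incl_retr φ i)

instance mono_incl : Mono (incl φ) := HomologicalComplex.mono_of_mono_f _ fun i => mono_incl_f φ i

/-- The short exact sequence `0 → M → N ⊞ cone(𝟙 M) → Z → 0`. -/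
noncomputable abbrev ses : ShortComplex (CochainComplex C ℤ) :=
  ShortComplex.mk (incl φ) (cokernel.π (incl φ)) (cokernel.condition _)

lemma ses_shortExact : (ses φ).ShortExact where
  exact := ShortComplex.exact_cokernel _
  mono_f := mono_incl φ
  epi_g := by dsimp; infer_instance

/-- Termwise splitting. -/
noncomputable def splitting (i : ℤ) : ((ses φ).map (HomologicalComplex.eval C (ComplexShape.up ℤ) i)).Splitting :=
  haveI := (ses_shortExact φ).map_of_exact (HomologicalComplex.eval C (ComplexShape.up ℤ) i)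
  ShortComplex.Splitting.ofExactOfRetraction _ this.exact (retr i) (incl_retr φ i) this.epi_g

/-- The complex `Z`. -/
noncomputable abbrev Zc : CochainComplex C ℤ := cokernel (incl φ)

lemma retract_Zc (i : ℤ) : Nonempty (Retract ((Zc φ).X i) ((N ⊞ mappingCone (𝟙 M)).X i)) :=
  ⟨⟨(splitting φ i).s, (cokernel.π (incl φ)).f i, (splitting φ i).s_g⟩⟩

lemma acyclic_cone_id (M : CochainComplex C ℤ) : (mappingCone (𝟙 M)).Acyclic :=
  (Groth.Agent.PerfC.AcyclicBdd.quasiIso_iff_acyclic_mappingCone (𝟙 M)).1 inferInstance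

lemma quasiIso_inl : QuasiIso (biprod.inl : N ⟶ N ⊞ mappingCone (𝟙 M)) :=
  (Groth.Agent.CohtopA.TrivCof.quasiIso_f_iff
    (ShortComplex.Splitting.ofHasBinaryBiproduct N (mappingCone (𝟙 M))).shortExact).2 (acyclic_cone_id M)

lemma quasiIso_fst : QuasiIso (biprod.fst : N ⊞ mappingCone (𝟙 M) ⟶ N) := by
  have h1 := quasiIso_inl (M := M) (N := N)
  have h2 : QuasiIso ((biprod.inl : N ⟶ N ⊞ mappingCone (𝟙 M)) ≫ biprod.fst) := by
    rw [biprod.inl_fst]
    infer_instance
  exact quasiIso_of_comp_left (biprod.inl : N ⟶ N ⊞ mappingCone (𝟙 M)) biprod.fst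

lemma quasiIso_incl [QuasiIso φ] : QuasiIso (incl φ) := by
  have h1 := quasiIso_fst (M := M) (N := N)
  have h2 : QuasiIso (incl φ ≫ biprod.fst) := by
    rw [biprod.lift_fst]
    infer_instance
  exact quasiIso_of_comp_right (incl φ) biprod.fst

lemma acyclic_Zc [QuasiIso φ] : (Zc φ).Acyclic :=
  (ses_shortExact φ).acyclic_X₃ (quasiIso_incl φ)

end

section Main

variable {M N : CochainComplex C ℤ} (φ : M ⟶ N) [QuasiIso φ] (a b : ℤ)
  (hM : ∀ i, (i < a ∨ b < i) → IsZero (M.X i)) (hN : ∀ i, (i < a ∨ b < i) → IsZero (N.X i))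
  (hMp : ∀ i, Projective (M.X i)) (hNp : ∀ i, Projective (N.X i))

/-- the terms of the cone of the identity -/
noncomputable def coneX (M : CochainComplex C ℤ) (i : ℤ) : (mappingCone (𝟙 M)).X i ≅ M.X (i + 1) ⊞ M.X i :=
  HomologicalComplex.homotopyCofiber.XIsoBiprod (𝟙 M) i (i + 1) (by simp)

include hM in
omit [QuasiIso φ] in
lemma isZero_coneX (i : ℤ) (hi : i < a - 1 ∨ b < i) : IsZero ((mappingCone (𝟙 M)).X i) :=
  IsZero.of_iso (by
    rw [biprod_isZero_iff]
    exact ⟨hM _ (by omega), hM _ (by omega)⟩) (coneX M i)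

include hMp in
omit [QuasiIso φ] in
lemma projective_coneX (i : ℤ) : Projective ((mappingCone (𝟙 M)).X i) := by
  have := hMp i
  have := hMp (i + 1)
  exact Projective.of_iso (coneX M i).symm inferInstance

/-- the terms of `N ⊞ cone(𝟙 M)` -/
noncomputable def sumX (M N : CochainComplex C ℤ) (i : ℤ) :
    (N ⊞ mappingCone (𝟙 M)).X i ≅ N.X i ⊞ (M.X (i + 1) ⊞ M.X i) :=
  (HomologicalComplex.eval C (ComplexShape.up ℤ) i).mapBiprod N (mappingCone (𝟙 M)) ≪≫
    biprod.mapIso (Iso.refl _) (coneX M i)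

omit [QuasiIso φ] in
/-- the terms of `Z` are direct summands of `N^i ⊞ M^{i+1} ⊞ M^i`. -/
lemma retract_Zc' (i : ℤ) : Nonempty (Retract ((Zc φ).X i) (N.X i ⊞ (M.X (i + 1) ⊞ M.X i))) := by
  obtain ⟨r⟩ := retract_Zc φ i
  exact ⟨r.trans (Retract.ofIso (sumX M N i))⟩

include hM hN in
omit [QuasiIso φ] in
lemma isZero_Zc (i : ℤ) (hi : i < a - 1 ∨ b < i) : IsZero ((Zc φ).X i) := by
  obtain ⟨r⟩ := retract_Zc' φ i
  have h1 : IsZero (N.X i ⊞ (M.X (i + 1) ⊞ M.X i)) := by
    rw [biprod_isZero_iff, biprod_isZero_iff]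
    exact ⟨hN _ (by omega), hM _ (by omega), hM _ (by omega)⟩
  exact IsZero.of_epi r.r h1

include hMp hNp in
omit [QuasiIso φ] in
lemma projective_Zc (i : ℤ) : Projective ((Zc φ).X i) := by
  obtain ⟨r⟩ := retract_Zc' φ i
  have := hMp i
  have := hMp (i + 1)
  have := hNp i
  exact r.projective

include hM hN hMp hNp in
/-- **Main result**: `M ⊞ Z ≅ N ⊞ cone(𝟙 M)`, with contractible `Z` and cone. -/
theorem nonempty_iso : Nonempty (Homotopy (𝟙 (Zc φ)) 0) ∧ Nonempty (Homotopy (𝟙 (mappingCone (𝟙 M))) 0) ∧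
    Nonempty (M ⊞ Zc φ ≅ N ⊞ mappingCone (𝟙 M)) := by
  have h1 := nonempty_contraction (Zc φ) b (fun i hi => isZero_Zc φ a b hM hN i (Or.inr hi))
    (projective_Zc φ hMp hNp) (acyclic_Zc φ)
  refine ⟨h1, nonempty_contraction _ b (fun i hi => isZero_coneX a b hM i (Or.inr hi)) (projective_coneX hMp)
    (acyclic_cone_id M), ?_⟩
  obtain ⟨h⟩ := h1
  obtain ⟨s, hs⟩ := exists_section (ses φ) (ses_shortExact φ) (projective_Zc φ hMp hNp) h
  have sp : (ses φ).Splitting :=
    ShortComplex.Splitting.ofExactOfSection (ses φ) (ses_shortExact φ).exact s hs (ses_shortExact φ).mono_f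
  exact ⟨sp.isoBinaryBiproduct.symm⟩

end Main

end K232.ContrSplit
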