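import Mathlib.RingTheory.LocalProperties.Submodule
import Mathlib.RingTheory.Localization.BaseChange
import Groth.Agent.LoccohB.FlatLBC
import Groth.Agent.LoccohB.BCUnit

/-!
# Exactness of a complex of modules can be tested at the maximal ideals
-/

set_option autoImplicit false

universe u

open CategoryTheory CategoryTheory.Limits
open scoped TensorProduct

namespace K232.ExactMax

open Groth.Agent.LoccohB

variable {B : Type u} [CommRing B]

theorem isZero_of_forall_maximal (M : ModuleCat.{u} B)
    (h : ∀ (m : Ideal B) [m.IsMaximal],
      IsZero ((ModuleCat.extendScalars.{u, u, u} (algebraMap B (Localization.AtPrime m))).obj M)) : IsZero M := by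
  have : Subsingleton M := by
    refine Module.subsingleton_of_localization_maximal (R := B)
      (fun (P : Ideal B) _ => Localization.AtPrime P ⊗[B] M)
      (fun (P : Ideal B) _ => TensorProduct.mk B (Localization.AtPrime P) M 1) ?_
    intro m hm
    have := ModuleCat.subsingleton_of_isZero (h m)
    exact (FlatLBC.extEquiv B (Localization.AtPrime m) M).injective.subsingleton
  exact ModuleCat.isZero_of_subsingleton M

theorem exactAt_of_forall_maximal (K : CochainComplex (ModuleCat.{u} B) ℤ) (i : ℤ)
    (h : ∀ (m : Ideal B) [m.IsMaximal], ((BCUnit.extCx (algebraMap B (Localization.AtPrime m))).obj K).ExactAt i) :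
    K.ExactAt i := by
  rw [HomologicalComplex.exactAt_iff_isZero_homology]
  refine isZero_of_forall_maximal _ fun m hm => ?_
  have hfl : (algebraMap B (Localization.AtPrime m)).Flat := by
    rw [RingHom.flat_algebraMap_iff]
    exact IsLocalization.flat _ m.primeCompl
  have hex : PreservesFiniteLimits (ModuleCat.extendScalars.{u, u, u} (algebraMap B (Localization.AtPrime m))) :=
    ModuleCat.preservesFiniteLimits_extendScalars_of_flat hfl
  have h1 := h m
  rw [HomologicalComplex.exactAt_iff_isZero_homology] at h1
  exact h1.of_iso (ShortComplex.mapHomologyIso (K.sc i)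
    (ModuleCat.extendScalars.{u, u, u} (algebraMap B (Localization.AtPrime m)))).symm

end K232.ExactMax
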