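import Groth.Agent.DRing.K231.TwoTerm

/-!
# Objects with cohomology in degrees `-1, 0` and powers of an ideal killing `Ext¹`
-/

set_option autoImplicit false
set_option backward.isDefEq.respectTransparency false

universe u

open CategoryTheory Limits Pretriangulated

attribute [local instance] HasDerivedCategory.standard

namespace K232.ExtPow

open Groth.Agent.LoccohB K231.Amp K231.TwoTerm DerivedCategory.TStructure

variable {R : Type u} [CommRing R]

/-- The map from an object of `D^{≤ 0}` to its `H^0`. -/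
lemma exists_toH0 (K : Dual.D R) (hK : K.IsLE 0) : ∃ (X : Dual.D R)
    (i : X ⟶ K) (α : K ⟶ S.obj ((H 0).obj K)) (δ : S.obj ((H 0).obj K) ⟶ X⟦(1 : ℤ)⟧),
      Triangle.mk i α δ ∈ distTriang (Dual.D R) ∧ X.IsLE (-1) := by
  obtain ⟨X, Y, hX, hY, i, α, δ, hT⟩ := t.exists_triangle K (-1) 0 (by omega)
  have hY' : Y.IsGE 0 := ⟨hY⟩
  have hX' : X.IsLE (-1) := ⟨hX⟩
  have hX1 : t.IsLE (X⟦(1 : ℤ)⟧) (-2) := t.isLE_shift X (-1) 1 (-2) (by omega)
  have hX2 : t.IsLE (X⟦(1 : ℤ)⟧) 0 := t.isLE_of_le _ (-2) 0 (by omega)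
  have hK' : t.IsLE K 0 := hK
  have hY2 : Y.IsLE 0 := t.isLE₂ _ (rot_of_distTriang _ hT) 0 hK' hX2
  obtain ⟨M, ⟨e⟩⟩ := DerivedCategory.exists_iso_singleFunctor_obj_of_isGE_of_isLE Y 0
  have hz0 : IsZero ((H 0).obj X) := DerivedCategory.isZero_of_isLE X (-1) 0 (by omega)
  have hz1 : IsZero ((H 0).obj (X⟦(1 : ℤ)⟧)) := DerivedCategory.isZero_of_isLE (X⟦(1 : ℤ)⟧) (-2) 0 (by omega)
  have h1 : Mono ((H 0).map α) := (DerivedCategory.HomologySequence.exact₂ _ hT 0).mono_g (hz0.eq_of_src _ _)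
  have h2 : Epi ((H 0).map α) :=
    (DerivedCategory.HomologySequence.exact₂ _ (rot_of_distTriang _ hT) 0).epi_f (hz1.eq_of_tgt _ _)
  have h3 := isIso_of_mono_of_epi ((H 0).map α)
  let e' : (H 0).obj K ≅ M := asIso ((H 0).map α) ≪≫ (H 0).mapIso e ≪≫
    (DerivedCategory.singleFunctorCompHomologyFunctorIso (ModuleCat.{u} R) 0).app M
  let E : Y ≅ S.obj ((H 0).obj K) := e ≪≫ S.mapIso e'.symm
  refine ⟨X, i, α ≫ E.hom, E.inv ≫ δ, ?_, hX'⟩
  refine isomorphic_distinguished _ hT _ (Triangle.isoMk _ _ (Iso.refl _) (Iso.refl _) E.symm ?_ ?_ ?_)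
  · exact (Category.comp_id _).trans (Category.id_comp _).symm
  · change (α ≫ E.hom) ≫ E.inv = 𝟙 _ ≫ α
    rw [Category.assoc, E.hom_inv_id, Category.comp_id, Category.id_comp]
  · change (E.inv ≫ δ) ≫ (𝟙 _)⟦(1 : ℤ)⟧' = E.inv ≫ δ
    rw [CategoryTheory.Functor.map_id, Category.comp_id]

/-- Scalars killing the cohomology of an object concentrated in one degree kill the object. -/
lemma smul_id_eq_zero_of_single (X : Dual.D R) (n : ℤ) (h1 : X.IsLE n) (h2 : X.IsGE n) (a : R)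
    (ha : ∀ x : Dual.HD R X n, a • x = 0) : a • 𝟙 X = 0 := by
  obtain ⟨M, ⟨e⟩⟩ := DerivedCategory.exists_iso_singleFunctor_obj_of_isGE_of_isLE X n
  let e' : (H n).obj X ≅ M := (H n).mapIso e ≪≫
    (DerivedCategory.singleFunctorCompHomologyFunctorIso (ModuleCat.{u} R) n).app M
  have h3 : a • 𝟙 M = 0 := by
    have h4 : a • 𝟙 ((H n).obj X) = 0 := by
      ext x
      exact ha x
    rw [← e'.inv_hom_id, ← Linear.comp_smul, ← Category.id_comp e'.hom, ← Linear.smul_comp, h4, zero_comp,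
      comp_zero]
  have h5 : a • 𝟙 ((DerivedCategory.singleFunctor (ModuleCat.{u} R) n).obj M) = 0 := by
    rw [← CategoryTheory.Functor.map_id, ← Functor.map_smul, h3, Functor.map_zero]
  rw [← e.hom_inv_id, ← Category.id_comp e.inv, ← Linear.comp_smul, ← Linear.smul_comp, h5, zero_comp, comp_zero]

variable (I : Ideal R) (K : Dual.D R)
    (hK : ∀ i : ℤ, i ≠ -1 → i ≠ 0 → Subsingleton (Dual.HD R K i))

include hK in
/-- forward direction, (a) -/
lemma smul_H_eq_zero (a : R) (ha : ∀ (N : Type u) [AddCommGroup N] [Module R N]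
        (ξ : K ⟶ (Dual.inD R N)⟦(1 : ℤ)⟧), a • ξ = 0) (x : Dual.HD R K (-1)) : a • x = 0 := by
  obtain ⟨M, d, b, c, hT⟩ := exists_tri K hK (Projective.over ((H 0).obj K)) (Projective.π _)
  have h1 : a • c = 0 := ha M c
  have hz : IsZero ((H (-1)).obj (S.obj (Projective.over ((H 0).obj K)))) :=
    DerivedCategory.isZero_of_isGE _ 0 (-1) (by omega)
  have h2 : Mono ((H (-1)).map c) :=
    (DerivedCategory.HomologySequence.exact₂ _ (rot_of_distTriang _ hT) (-1)).mono_g (hz.eq_of_src _ _)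
  have h3 : (a • 𝟙 ((H (-1)).obj K)) ≫ (H (-1)).map c = 0 := by
    rw [Linear.smul_comp, Category.id_comp, ← Functor.map_smul, h1, Functor.map_zero]
  have h4 : a • 𝟙 ((H (-1)).obj K) = 0 := (cancel_mono ((H (-1)).map c)).1 (h3.trans zero_comp.symm)
  exact congrArg (fun t : (H (-1)).obj K ⟶ (H (-1)).obj K => t.hom x) h4

include hK in
/-- forward direction, (b) -/
lemma smul_ext_H0_eq_zero (a : R) (ha : ∀ (N : Type u) [AddCommGroup N] [Module R N]
        (ξ : K ⟶ (Dual.inD R N)⟦(1 : ℤ)⟧), a • ξ = 0) (N : Type u) [AddCommGroup N] [Module R N]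
        (ξ : Dual.inD R (Dual.HD R K 0) ⟶ (Dual.inD R N)⟦(1 : ℤ)⟧) : a • ξ = 0 := by
  obtain ⟨X, i, α, δ, hT, hX⟩ := exists_toH0 K (isLE_of hK)
  have h1 : α ≫ (a • ξ) = 0 := by
    rw [Linear.comp_smul]
    exact ha N (α ≫ ξ)
  obtain ⟨w, hw⟩ := Triangle.yoneda_exact₃ _ hT _ h1
  change X⟦(1 : ℤ)⟧ ⟶ (Dual.inD R N)⟦(1 : ℤ)⟧ at w
  have hX1 : t.IsLE (X⟦(1 : ℤ)⟧) (-2) := t.isLE_shift X (-1) 1 (-2) (by omega)
  have hN := isGE_shift_inD (ModuleCat.of R N)
  rw [hw, t.zero_of_isLE_of_isGE w (-2) (-1) (by omega) hX1 hN, comp_zero]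

include hK in
/-- backward direction for products -/
lemma mul_smul_eq_zero (a a' : R) (ha : ∀ x : Dual.HD R K (-1), a • x = 0) (N : Type u) [AddCommGroup N]
    [Module R N] (ha' : ∀ (ξ : Dual.inD R (Dual.HD R K 0) ⟶ (Dual.inD R N)⟦(1 : ℤ)⟧), a' • ξ = 0)
    (ξ : K ⟶ (Dual.inD R N)⟦(1 : ℤ)⟧) : (a' * a) • ξ = 0 := by
  obtain ⟨X, i, α, δ, hT, hX⟩ := exists_toH0 K (isLE_of hK)
  have hKge : t.IsGE K (-1) := isGE_of hK
  have hS : t.IsGE ((S.obj ((H 0).obj K))⟦(-1 : ℤ)⟧) 1 := t.isGE_shift _ 0 (-1) 1 (by omega)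
  have hXge : X.IsGE (-1) := by
    rw [DerivedCategory.isGE_iff]
    intro j hj
    have h2 := DerivedCategory.HomologySequence.exact₁ _ hT (j - 1) j (by omega)
    refine h2.isZero_of_both_zeros ?_ ?_
    · exact (DerivedCategory.isZero_of_isGE (S.obj ((H 0).obj K)) 0 (j - 1) (by omega)).eq_of_src _ _
    · exact (DerivedCategory.isZero_of_isGE K (-1) j (by omega)).eq_of_tgt _ _
  have h1 : Mono ((H (-1)).map i) := by
    have h2 := DerivedCategory.HomologySequence.exact₁ _ hT (-2) (-1) (by omega)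
    exact h2.mono_g ((DerivedCategory.isZero_of_isGE (S.obj ((H 0).obj K)) 0 (-2) (by omega)).eq_of_src _ _)
  have h3 : ∀ x : Dual.HD R X (-1), a • x = 0 := by
    intro x
    have h4 : Function.Injective ((H (-1)).map i).hom := (ModuleCat.mono_iff_injective _).1 h1
    apply h4
    rw [map_zero, map_smul]
    exact ha _
  have h5 := smul_id_eq_zero_of_single X (-1) hX hXge a h3
  have h6 : i ≫ (a • ξ) = 0 := by
    rw [Linear.comp_smul, ← Category.id_comp (i ≫ ξ), ← Linear.smul_comp, h5, zero_comp]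
  obtain ⟨w, hw⟩ := Triangle.yoneda_exact₂ _ hT _ h6
  change S.obj ((H 0).obj K) ⟶ (Dual.inD R N)⟦(1 : ℤ)⟧ at w
  rw [mul_smul, hw, ← Linear.comp_smul, ha' w, comp_zero]

end K232.ExtPow
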