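import Groth.Agent.DRing.K232.TenMod
import Groth.Agent.DRing.K230.QuotCrit
import Groth.Agent.LoccohB.KProj

/-!
# Vanishing of `H^i(P ⊗ᴸ N)` for modules `N` of finite length over a local ring
-/

set_option autoImplicit false

universe u

open CategoryTheory CategoryTheory.Limits TensorProduct

attribute [local instance] HasDerivedCategory.standard

namespace K232.FinLen

open DRing K227.TorCrit K232.TenMod Groth.Agent.LoccohB

variable {A : Type u} [CommRing A]

/-- K-projective representatives with projective terms. -/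
lemma exists_rep (K : Dual.D A) : ∃ P : Cx A, P.IsKProjective ∧ TermwiseFlat P ∧ Nonempty (toD P ≅ K) := by
  obtain ⟨P, p, hP, hp, hP', -⟩ := KProj.exists_kprojective (DerivedCategory.Q.objPreimage K)
  refine ⟨P, hP, fun i => ?_, ⟨asIso (DerivedCategory.Q.map p) ≪≫ DerivedCategory.Q.objObjPreimageIso K⟩⟩
  have h5 : Module.Projective A (P.X i) := (IsProjective.iff_projective (R := A) (P.X i)).2 (hP' i)
  infer_instance

lemma subsingleton_lten_iff_exactAt (P : Cx A) [P.IsKProjective] (K : Dual.D A) (e : toD P ≅ K)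
    (N : ModuleCat.{u} A) [HasLTensor A N] (i : ℤ) :
    Subsingleton (Dual.HD A ((LTensor A N).obj K) i) ↔ (tensorCx P N).ExactAt i := by
  obtain ⟨e'⟩ := nonempty_lten_kproj N P
  rw [exactAt_iff_subsingleton_HD]
  have e'' : (LTensor A N).obj K ≅ toD (tensorCx P N) := (LTensor A N).mapIso e.symm ≪≫ e'
  exact ⟨subsingleton_HD_of_iso e'' i, subsingleton_HD_of_iso e''.symm i⟩

lemma exactAt_of_iso (P : Cx A) {M N : ModuleCat.{u} A} (e : M ≅ N) (i : ℤ) (h : (tensorCx P M).ExactAt i) :
    (tensorCx P N).ExactAt i :=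
  h.of_iso (K230.LTenQuot.mapCxIso ((MonoidalCategory.tensoringRight (ModuleCat.{u} A)).mapIso e) P)

lemma exactAt_of_subsingleton (P : Cx A) (N : Type u) [AddCommGroup N] [Module A N] [Subsingleton N] (i : ℤ) :
    (tensorCx P (ModuleCat.of A N)).ExactAt i := by
  rw [HomologicalComplex.exactAt_iff]
  apply ShortComplex.exact_of_isZero_X₂
  have : Subsingleton ((P.X i : Type u) ⊗[A] N) := by
    refine subsingleton_of_forall_eq 0 fun z => ?_
    induction z using TensorProduct.induction_on with
    | zero => rfl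
    | add x y hx hy => rw [hx, hy, add_zero]
    | tmul x y => rw [Subsingleton.elim y 0, TensorProduct.tmul_zero]
  exact @ModuleCat.isZero_of_subsingleton _ _ (ModuleCat.of A ((P.X i : Type u) ⊗[A] N)) this

theorem exactAt_of_isFiniteLength (P : Cx A) (hP : TermwiseFlat P) [IsLocalRing A] (i : ℤ)
    (h : (tensorCx P (ModuleCat.of A (IsLocalRing.ResidueField A))).ExactAt i)
    (N : Type u) [AddCommGroup N] [Module A N] (hN : IsFiniteLength A N) :
    (tensorCx P (ModuleCat.of A N)).ExactAt i := by
  induction hN with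
  | of_subsingleton => exact exactAt_of_subsingleton P _ i
  | @of_simple_quotient M _ _ N hs h1 ih =>
    refine exactAt_ext P hP N.subtype N.mkQ N.injective_subtype (LinearMap.exact_subtype_mkQ N)
      N.mkQ_surjective i ih ?_
    obtain ⟨I, hI, ⟨e⟩⟩ := isSimpleModule_iff_quot_maximal.1 hs
    obtain rfl := IsLocalRing.eq_maximalIdeal hI
    exact exactAt_of_iso P (e.symm.toModuleIso) i h

end K232.FinLen
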