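import Groth.Agent.DTen.K786.Good
import Groth.Agent.Htor.H240.FlatTens
import Groth.Agent.Dcoh.TensSingle
import Groth.Agent.LoccohB.LBC2

/-!
# `LTensorCx A E` computed by K-flat complexes

* `isIso_counit_of_kflat`, `isIso_counit_of_kflat_left`: `(Q K) ⊗ᴸ E = Q (K ⊗ E)` if `E` or `K` is K-flat;
* `isKFlat_of_vanishesAbove`: bounded above complexes of flat modules are K-flat;
* `ltenQIso`: `Q ⋙ LTensorCx A E ≅ (- ⊗ E) ⋙ Q` for `E` K-flat;
* `ltenSingleFlat`: `LTensorCx A (M[0])` is induced by the exact functor `- ⊗ M` for `M` flat.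
-/

set_option autoImplicit false

universe u

open CategoryTheory CategoryTheory.Limits MonoidalCategory

attribute [local instance] HasDerivedCategory.standard

namespace K232.KFlatTen

open DerivedCategory Groth.Agent.LoccohB Groth.Agent.LoccohB.LTen Groth.Agent.PerfB.RingKFlat
  K786

variable {A : Type u} [CommRing A]

/-- `(Q K) ⊗ᴸ E = Q (K ⊗ E)` if `E` is K-flat. -/
theorem isIso_counit_of_kflat (E : DRing.Cx A) [DRing.HasLTensorCx A E] (hE : DRing.IsKFlat A E)
    (K : DRing.Cx A) : IsIso ((ltenCounit E).app K) := by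
  obtain ⟨P, p, hP, hp, -, -⟩ := KProj.exists_kprojective K
  have h1 := (ltenCounit E).naturality p
  have h2 : QuasiIso (p ▷ E) := Good.quasiIso_whiskerRight_of_isKFlat hE p
  have h3 : IsIso (Q.map (p ▷ E)) := inferInstance
  have h4 : IsIso (Q.map p) := inferInstance
  have h5 : IsIso ((DRing.LTensorCx A E).map (Q.map p)) := inferInstance
  have h6 : (ltenCounit E).app K = inv ((DRing.LTensorCx A E).map (Q.map p)) ≫
      (ltenCounit E).app P ≫ Q.map (p ▷ E) := by
    rw [IsIso.eq_inv_comp]
    exact h1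
  rw [h6]
  infer_instance

/-- `(Q K) ⊗ᴸ E = Q (K ⊗ E)` if `K` is K-flat. -/
theorem isIso_counit_of_kflat_left (E : DRing.Cx A) [DRing.HasLTensorCx A E]
    (K : DRing.Cx A) (hK : DRing.IsKFlat A K) : IsIso ((ltenCounit E).app K) := by
  obtain ⟨P, p, hP, hp, -, -⟩ := KProj.exists_kprojective K
  have h1 := (ltenCounit E).naturality p
  have h2 : QuasiIso (p ▷ E) :=
    Good.quasiIso_whiskerRight_of_isKFlat' (Good.isKFlat_of_isKProjective P) hK p E
  have h3 : IsIso (Q.map (p ▷ E)) := inferInstance
  have h4 : IsIso (Q.map p) := inferInstance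
  have h5 : IsIso ((DRing.LTensorCx A E).map (Q.map p)) := inferInstance
  have h6 : (ltenCounit E).app K = inv ((DRing.LTensorCx A E).map (Q.map p)) ≫
      (ltenCounit E).app P ≫ Q.map (p ▷ E) := by
    rw [IsIso.eq_inv_comp]
    exact h1
  rw [h6]
  infer_instance

/-- Bounded above complexes of flat modules are K-flat. -/
theorem isKFlat_of_vanishesAbove (L : DRing.Cx A) (hL : DRing.TermwiseFlat L) {b : ℤ}
    (bL : DRing.VanishesAbove L b) : DRing.IsKFlat A L := by
  rw [Good.isKFlat_iff]
  exact Groth.Agent.Htor.H240.FlatTens.kfl L hL bL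

/-- `M[0]` is K-flat for `M` flat. -/
theorem isKFlat_single (M : ModuleCat.{u} A) [Module.Flat A M] (n : ℤ) :
    DRing.IsKFlat A ((HomologicalComplex.single (ModuleCat.{u} A) (ComplexShape.up ℤ) n).obj M) := by
  refine isKFlat_of_vanishesAbove _ (b := n) (fun i => ?_) (fun i hi => ?_)
  · by_cases h : i = n
    · subst h
      exact Module.Flat.of_linearEquiv
        (HomologicalComplex.singleObjXSelf (ComplexShape.up ℤ) i M).toLinearEquiv
    · have h1 := HomologicalComplex.isZero_single_obj_X (ComplexShape.up ℤ) n M i h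
      have := ModuleCat.subsingleton_of_isZero h1
      infer_instance
  · exact HomologicalComplex.isZero_single_obj_X (ComplexShape.up ℤ) n M i (by omega)

/-- `Q ⋙ (- ⊗ᴸ E) ≅ (- ⊗ E) ⋙ Q` for `E` K-flat. -/
noncomputable def ltenQIso (E : DRing.Cx A) [DRing.HasLTensorCx A E] (hE : DRing.IsKFlat A E) :
    Q ⋙ DRing.LTensorCx A E ≅ tensorRight E ⋙ Q :=
  have := isIso_counit_of_kflat E hE
  NatIso.ofComponents (fun K => asIso (C := Dual.D A) ((ltenCounit E).app K))
    fun f => (ltenCounit E).naturality f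

section Single

variable (M : ModuleCat.{u} A) [Module.Flat A M]

instance preservesFiniteLimits_tensorRight : PreservesFiniteLimits (tensorRight M) :=
  have : PreservesFiniteLimits (tensorLeft M) := inferInstance
  preservesFiniteLimits_of_natIso (BraidedCategory.tensorLeftIsoTensorRight M)

omit [Module.Flat A M] in
instance preservesFiniteColimits_tensorRight : PreservesFiniteColimits (tensorRight M) :=
  have : PreservesFiniteColimits (tensorLeft M) := inferInstance
  preservesFiniteColimits_of_natIso (BraidedCategory.tensorLeftIsoTensorRight M)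

/-- For `M` flat, `- ⊗ᴸ M[0]` is induced by the exact functor `- ⊗ M`. -/
noncomputable def ltenSingleFlat [DRing.HasLTensorCx A
    ((HomologicalComplex.single (ModuleCat.{u} A) (ComplexShape.up ℤ) 0).obj M)] :
    DRing.LTensorCx A ((HomologicalComplex.single (ModuleCat.{u} A) (ComplexShape.up ℤ) 0).obj M) ≅
      (tensorRight M).mapDerivedCategory :=
  LBC.natIsoOfQ (ltenQIso _ (isKFlat_single M 0) ≪≫
    Functor.isoWhiskerRight (Groth.Agent.Dcoh.TensSingle.singleRightIso (TR A) M).symm Q ≪≫
    ((tensorRight M).mapDerivedCategoryFactors).symm)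

end Single

end K232.KFlatTen
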