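import Mathlib.RingTheory.Localization.Away.Basic
import Mathlib.LinearAlgebra.TensorProduct.Tower
import Mathlib.Data.Int.Interval
import Groth.Prelude.Def_DRing2
import Groth.Agent.SGA3t2b.K218.LocFree
import Groth.Agent.LoccohB.FlatLBC
import Groth.Agent.DRing.K232.ContrSplit

/-!
# Making a contractible bounded complex of finite projectives free after localization
-/

set_option autoImplicit false

universe u

open CategoryTheory Category Limits TensorProduct
attribute [local instance] HasDerivedCategory.standard
open DRing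

namespace K232.LocIso

variable {R : Type u} [CommRing R]

/-- `X` becomes free over `R_f`. -/
abbrev FreeAt (f : R) (X : Type u) [AddCommGroup X] [Module R X] : Prop :=
  Module.Free (Localization.Away f) (Localization.Away f ⊗[R] X)

lemma freeAt_of_dvd {f g : R} (h : f ∣ g) (X : Type u) [AddCommGroup X] [Module R X] (hf : FreeAt f X) :
    FreeAt g X := by
  have hu : IsUnit (algebraMap R (Localization.Away g) f) := by
    have hg : IsUnit (algebraMap R (Localization.Away g) g) := IsLocalization.Away.algebraMap_isUnit g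
    exact isUnit_of_dvd_unit (map_dvd _ h) hg
  letI : Algebra (Localization.Away f) (Localization.Away g) :=
    (IsLocalization.Away.lift (S := Localization.Away f) f hu).toAlgebra
  haveI : IsScalarTower R (Localization.Away f) (Localization.Away g) :=
    IsScalarTower.of_algebraMap_eq (fun x => (IsLocalization.Away.lift_eq f hu x).symm)
  exact Module.Free.of_equiv (TensorProduct.AlgebraTensorModule.cancelBaseChange R (Localization.Away f)
    (Localization.Away g) (Localization.Away g) X)

lemma exists_freeAt (p : Ideal R) [hp : p.IsPrime] {ι : Type*} (s : Finset ι) (X : ι → Type u)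
    [∀ i, AddCommGroup (X i)] [∀ i, Module R (X i)] (hX : ∀ i, Module.Finite R (X i) ∧ Module.Projective R (X i)) :
    ∃ f : R, f ∉ p ∧ ∀ i ∈ s, FreeAt f (X i) := by
  classical
  induction s using Finset.induction_on with
  | empty => exact ⟨1, fun h => hp.ne_top ((Ideal.eq_top_iff_one p).2 h), by simp⟩
  | insert j t hj ih =>
    obtain ⟨f, hf, h1⟩ := ih
    haveI := (hX j).1
    haveI := (hX j).2
    obtain ⟨g, hg, h2⟩ := K218.LocFree.exists_free_away (A := R) (M := X j) ⟨p, hp⟩
    refine ⟨f * g, fun h => ?_, fun i hi => ?_⟩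
    · rcases hp.mem_or_mem h with h | h
      · exact hf h
      · exact hg h
    · rw [Finset.mem_insert] at hi
      rcases hi with rfl | hi
      · exact freeAt_of_dvd (Dvd.intro_left f rfl) _ h2
      · exact freeAt_of_dvd (Dvd.intro g rfl) _ (h1 i hi)

lemma freeAt_of_subsingleton (f : R) (X : Type u) [AddCommGroup X] [Module R X] [Subsingleton X] : FreeAt f X := by
  haveI : Subsingleton (Localization.Away f ⊗[R] X) := by
    refine ⟨fun x y => ?_⟩
    have : ∀ z : Localization.Away f ⊗[R] X, z = 0 := fun z => by
      induction z using TensorProduct.induction_on with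
      | zero => rfl
      | tmul a b => rw [Subsingleton.elim b 0, TensorProduct.tmul_zero]
      | add x y hx hy => rw [hx, hy, add_zero]
    rw [this x, this y]
  infer_instance

/-- The boundaries of a contractible complex are retracts of the terms. -/
lemma range_finite_projective (P : Cx R) (hP : TermwiseFiniteProjective P) (h : Homotopy (𝟙 P) 0) (i : ℤ) :
    Module.Finite R (LinearMap.range (P.d i (i + 1)).hom) ∧
      Module.Projective R (LinearMap.range (P.d i (i + 1)).hom) := by
  haveI := (hP (i + 1)).1
  haveI := (hP (i + 1)).2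
  let r : P.X (i + 1) →ₗ[R] LinearMap.range (P.d i (i + 1)).hom :=
    LinearMap.codRestrict _ ((P.d i (i + 1)).hom ∘ₗ (h.hom (i + 1) i).hom) (fun x => ⟨_, rfl⟩)
  have hr : r ∘ₗ (LinearMap.range (P.d i (i + 1)).hom).subtype = LinearMap.id := by
    apply LinearMap.ext
    rintro ⟨_, x, rfl⟩
    apply Subtype.ext
    have h1 := h.comm (i + 1)
    rw [dNext_eq h.hom (show (ComplexShape.up ℤ).Rel (i + 1) (i + 1 + 1) by simp),
      prevD_eq h.hom (show (ComplexShape.up ℤ).Rel i (i + 1) by simp)] at h1
    have h2 := congr_arg (fun t => P.d i (i + 1) ≫ t) h1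
    simp only [HomologicalComplex.id_f, Preadditive.comp_add, HomologicalComplex.zero_f, add_zero, comp_zero,
      comp_id, HomologicalComplex.d_comp_d_assoc, zero_comp, zero_add] at h2
    have h3 := congr_arg (fun t => t.hom x) h2
    simp only [ModuleCat.hom_comp, LinearMap.comp_apply] at h3
    exact h3.symm
  refine ⟨Module.Finite.of_surjective r ?_, Module.Projective.of_split _ r hr⟩
  intro y
  exact ⟨y.1, congr($hr y)⟩


section BC

variable (R) (B : Type u) [CommRing B] [Algebra R B]

/-- extension of scalars of modules -/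
noncomputable abbrev ext : ModuleCat.{u} R ⥤ ModuleCat.{u} B := ModuleCat.extendScalars.{u, u, u} (algebraMap R B)

/-- extension of scalars of complexes -/
noncomputable abbrev extCx : Cx R ⥤ Cx B := (ext R B).mapHomologicalComplex (ComplexShape.up ℤ)

variable {R}

lemma ext_map_apply {X Y : ModuleCat.{u} R} (d : X ⟶ Y) (t : B ⊗[R] X) :
    ((ext R B).map d).hom (Groth.Agent.LoccohB.FlatLBC.extEquiv R B X t) =
      Groth.Agent.LoccohB.FlatLBC.extEquiv R B Y (d.hom.baseChange B t) := by
  induction t using TensorProduct.induction_on with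
  | zero => simp only [map_zero]
  | tmul b m =>
    rw [LinearMap.baseChange_tmul, Groth.Agent.LoccohB.FlatLBC.extEquiv_tmul,
      Groth.Agent.LoccohB.FlatLBC.extEquiv_tmul]
    rfl
  | add x y hx hy => simp only [map_add, hx, hy]

/-- The range of the base change of `d` along a flat ring map is the base change of the range. -/
noncomputable def rangeEquiv [Module.Flat R B] {X Y : ModuleCat.{u} R} (d : X ⟶ Y) :
    (B ⊗[R] LinearMap.range d.hom) ≃ₗ[B] LinearMap.range ((ext R B).map d).hom :=
  let j : B ⊗[R] LinearMap.range d.hom →ₗ[B] (ext R B).obj Y :=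
    (Groth.Agent.LoccohB.FlatLBC.extEquiv R B Y).toLinearMap ∘ₗ (LinearMap.range d.hom).subtype.baseChange B
  have hj : Function.Injective j :=
    (Groth.Agent.LoccohB.FlatLBC.extEquiv R B Y).injective.comp
      (Module.Flat.lTensor_preserves_injective_linearMap (M := B) (LinearMap.range d.hom).subtype
        (Submodule.injective_subtype _))
  have hr : LinearMap.range j = LinearMap.range ((ext R B).map d).hom := by
    have hs : Function.Surjective (d.hom.rangeRestrict.baseChange B) :=
      LinearMap.lTensor_surjective B d.hom.surjective_rangeRestrict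
    have hc : (LinearMap.range d.hom).subtype.baseChange B ∘ₗ d.hom.rangeRestrict.baseChange B =
        d.hom.baseChange B := by
      rw [← LinearMap.baseChange_comp]
      rfl
    apply le_antisymm
    · rintro _ ⟨t, rfl⟩
      obtain ⟨t, rfl⟩ := hs t
      refine ⟨Groth.Agent.LoccohB.FlatLBC.extEquiv R B X t, ?_⟩
      rw [ext_map_apply]
      change _ = Groth.Agent.LoccohB.FlatLBC.extEquiv R B Y (((LinearMap.range d.hom).subtype.baseChange B ∘ₗ d.hom.rangeRestrict.baseChange B) t)
      rw [hc]
    · rintro _ ⟨x, rfl⟩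
      obtain ⟨t, rfl⟩ := (Groth.Agent.LoccohB.FlatLBC.extEquiv R B X).surjective x
      refine ⟨d.hom.rangeRestrict.baseChange B t, ?_⟩
      rw [ext_map_apply]
      change Groth.Agent.LoccohB.FlatLBC.extEquiv R B Y (((LinearMap.range d.hom).subtype.baseChange B ∘ₗ d.hom.rangeRestrict.baseChange B) t) = _
      rw [hc]
  (LinearEquiv.ofInjective j hj).trans (LinearEquiv.ofEq _ _ hr)

end BC

/-- A contractible bounded complex of finite projectives becomes, locally around `p`, a bounded contractible
complex of finite free modules with free boundaries. -/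
theorem exists_loc (p : Ideal R) [p.IsPrime] {ι : Type} [Fintype ι] (P : ι → Cx R) (a b : ℤ)
    (hP : ∀ k, VanishesOutside (P k) a b)
    (hP' : ∀ k, TermwiseFiniteProjective (P k)) (h : ∀ k, Nonempty (Homotopy (𝟙 (P k)) 0)) :
    ∃ f : R, f ∉ p ∧ ∀ k, (∃ a' b' : ℤ, VanishesOutside ((extCx R (Localization.Away f)).obj (P k)) a' b') ∧
      TermwiseFiniteFree ((extCx R (Localization.Away f)).obj (P k)) ∧
      (∀ i : ℤ, Module.Free (Localization.Away f)
        (LinearMap.range (((extCx R (Localization.Away f)).obj (P k)).d i (i + 1)).hom)) ∧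
      Nonempty (Homotopy (𝟙 ((extCx R (Localization.Away f)).obj (P k))) 0) := by
  classical
  obtain ⟨f₁, hf₁, h₁⟩ := exists_freeAt p ((Finset.univ : Finset ι) ×ˢ Finset.Icc a b)
    (fun ki => (P ki.1).X ki.2) (fun ki => hP' ki.1 ki.2)
  obtain ⟨f₂, hf₂, h₂⟩ := exists_freeAt p ((Finset.univ : Finset ι) ×ˢ Finset.Icc a b)
    (fun ki => LinearMap.range ((P ki.1).d ki.2 (ki.2 + 1)).hom)
    (fun ki => range_finite_projective (P ki.1) (hP' ki.1) (h ki.1).some ki.2)
  have h₁' : ∀ k i, FreeAt f₁ ((P k).X i) := fun k i => by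
    by_cases hi : i < a ∨ b < i
    · have := ModuleCat.subsingleton_of_isZero (hP k i hi)
      exact freeAt_of_subsingleton _ _
    · exact h₁ (k, i) (by simp only [Finset.mem_product, Finset.mem_univ, Finset.mem_Icc, true_and]; omega)
  have h₂' : ∀ k i, FreeAt f₂ (LinearMap.range ((P k).d i (i + 1)).hom) := fun k i => by
    by_cases hi : i < a ∨ b < i
    · have := ModuleCat.subsingleton_of_isZero (hP k i hi)
      have : Subsingleton (LinearMap.range ((P k).d i (i + 1)).hom) :=
        ((P k).d i (i + 1)).hom.surjective_rangeRestrict.subsingleton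
      exact freeAt_of_subsingleton _ _
    · exact h₂ (k, i) (by simp only [Finset.mem_product, Finset.mem_univ, Finset.mem_Icc, true_and]; omega)
  refine ⟨f₁ * f₂, fun hh => ?_, fun k => ⟨⟨a, b, ?_⟩, ?_, ?_, ?_⟩⟩
  · rcases (inferInstance : p.IsPrime).mem_or_mem hh with hh | hh
    · exact hf₁ hh
    · exact hf₂ hh
  · intro i hi
    exact (ext R (Localization.Away (f₁ * f₂))).map_isZero (hP k i hi)
  · intro i
    haveI : Module.Finite R ((P k).X i) := (hP' k i).1
    haveI := freeAt_of_dvd (Dvd.intro f₂ (rfl : f₁ * f₂ = f₁ * f₂)) _ (h₁' k i)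
    exact ⟨Module.Finite.equiv (Groth.Agent.LoccohB.FlatLBC.extEquiv R (Localization.Away (f₁ * f₂)) ((P k).X i)),
      Module.Free.of_equiv (Groth.Agent.LoccohB.FlatLBC.extEquiv R (Localization.Away (f₁ * f₂)) ((P k).X i))⟩
  · intro i
    haveI := freeAt_of_dvd (Dvd.intro_left f₁ (rfl : f₁ * f₂ = f₁ * f₂)) _ (h₂' k i)
    haveI : Module.Flat R (Localization.Away (f₁ * f₂)) :=
      IsLocalization.flat _ (Submonoid.powers (f₁ * f₂))
    exact Module.Free.of_equiv (rangeEquiv (Localization.Away (f₁ * f₂)) ((P k).d i (i + 1)))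
  · obtain ⟨hh⟩ := h k
    have h1 := (ext R (Localization.Away (f₁ * f₂))).mapHomotopy hh
    rw [CategoryTheory.Functor.map_id, CategoryTheory.Functor.map_zero] at h1
    exact ⟨h1⟩

end K232.LocIso
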