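import Groth.Agent.DRing.K227.TorCrit

/-!
# Exactness of `P ⊗ N` for a complex of flat modules, as `N` varies

* `exactAt_ext`: stability under extensions of `N`.
* `exactAt_of_forall_finset`: stability under directed unions.
* `exactAt_iff_baseChange`: `P ⊗_A N` and `(B ⊗_A P) ⊗_B N` for a `B`-module `N`.
-/

set_option autoImplicit false

universe u

open CategoryTheory CategoryTheory.Limits TensorProduct

attribute [local instance] HasDerivedCategory.standard

namespace K232.TenMod

open DRing K227.TorCrit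

variable {A : Type u} [CommRing A]

section Ext

variable (P : Cx A) (hP : TermwiseFlat P)

include hP in
/-- Exactness of `P ⊗ N` is stable under extensions. -/
theorem exactAt_ext {N₁ N₂ N₃ : Type u} [AddCommGroup N₁] [Module A N₁] [AddCommGroup N₂] [Module A N₂]
    [AddCommGroup N₃] [Module A N₃] (f : N₁ →ₗ[A] N₂) (g : N₂ →ₗ[A] N₃) (hf : Function.Injective f)
    (hfg : Function.Exact f g) (hg : Function.Surjective g) (j : ℤ)
    (h₁ : (tensorCx P (ModuleCat.of A N₁)).ExactAt j) (h₃ : (tensorCx P (ModuleCat.of A N₃)).ExactAt j) :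
    (tensorCx P (ModuleCat.of A N₂)).ExactAt j := by
  have hij : j - 1 + 1 = j := by omega
  have hjk : j + 1 = j + 1 := rfl
  rw [exactAt_tensorCx_iff P _ hij hjk] at h₁ h₃ ⊢
  have := hP j
  have := hP (j + 1)
  set d := (P.d (j - 1) j).hom with hd
  set d' := (P.d j (j + 1)).hom with hd'
  have hdd : ∀ {N : Type u} [AddCommGroup N] [Module A N] (z : P.X (j - 1) ⊗[A] N),
      d'.rTensor N (d.rTensor N z) = 0 := by
    intro N _ _ z
    rw [← LinearMap.comp_apply, ← LinearMap.rTensor_comp]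
    have : d' ∘ₗ d = 0 := by
      rw [hd, hd', ← ModuleCat.hom_comp, P.d_comp_d]
      rfl
    rw [this, LinearMap.rTensor_zero]
    rfl
  have comm : ∀ {N N' : Type u} [AddCommGroup N] [Module A N] [AddCommGroup N'] [Module A N']
      {X Y : Type u} [AddCommGroup X] [Module A X] [AddCommGroup Y] [Module A Y] (d : X →ₗ[A] Y)
      (f : N →ₗ[A] N') (z : X ⊗[A] N), d.rTensor N' (f.lTensor X z) = f.lTensor Y (d.rTensor N z) := by
    intro N N' _ _ _ _ X Y _ _ _ _ d f z
    rw [← LinearMap.comp_apply, ← LinearMap.comp_apply, LinearMap.rTensor_comp_lTensor,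
      LinearMap.lTensor_comp_rTensor]
  intro x
  constructor
  · intro hx
    have h4 : d'.rTensor N₃ (g.lTensor _ x) = 0 := by
      rw [comm]
      erw [hx]
      rw [map_zero]
    obtain ⟨y₃, hy₃⟩ := (h₃ _).1 h4
    obtain ⟨y₂, rfl⟩ := LinearMap.lTensor_surjective (P.X (j - 1)) hg y₃
    have h5 : g.lTensor _ (x - d.rTensor N₂ y₂) = 0 := by
      rw [map_sub, ← comm, sub_eq_zero]
      exact hy₃.symm
    obtain ⟨x₁, hx₁⟩ := (lTensor_exact (P.X j) hfg hg _).1 h5
    have h6 : d'.rTensor N₁ x₁ = 0 := by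
      apply Module.Flat.lTensor_preserves_injective_linearMap (M := P.X (j + 1)) f hf
      rw [← comm, hx₁, map_sub, map_zero, hdd, sub_zero]
      exact hx
    obtain ⟨y₁, hy₁⟩ := (h₁ _).1 h6
    refine ⟨y₂ + f.lTensor _ y₁, ?_⟩
    have h7 : d.rTensor N₂ (y₂ + f.lTensor _ y₁) = x := by
      rw [map_add, comm, show d.rTensor N₁ y₁ = x₁ from hy₁, hx₁]
      abel
    exact h7
  · rintro ⟨y, rfl⟩
    exact hdd y

include hP in
/-- Exactness of `P ⊗ N` is stable under directed unions. -/
theorem exactAt_of_forall_finset {N : Type u} [AddCommGroup N] [Module A N] (j : ℤ)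
    (h : ∀ S : Submodule A N, S.FG → ∃ T : Submodule A N, S ≤ T ∧ (tensorCx P (ModuleCat.of A T)).ExactAt j) :
    (tensorCx P (ModuleCat.of A N)).ExactAt j := by
  have hij : j - 1 + 1 = j := by omega
  have hjk : j + 1 = j + 1 := rfl
  rw [exactAt_tensorCx_iff P _ hij hjk]
  have := hP (j + 1)
  set d := (P.d (j - 1) j).hom with hd
  set d' := (P.d j (j + 1)).hom with hd'
  have hdd : ∀ {N : Type u} [AddCommGroup N] [Module A N] (z : P.X (j - 1) ⊗[A] N),
      d'.rTensor N (d.rTensor N z) = 0 := by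
    intro N _ _ z
    rw [← LinearMap.comp_apply, ← LinearMap.rTensor_comp]
    have : d' ∘ₗ d = 0 := by
      rw [hd, hd', ← ModuleCat.hom_comp, P.d_comp_d]
      rfl
    rw [this, LinearMap.rTensor_zero]
    rfl
  have comm : ∀ {N N' : Type u} [AddCommGroup N] [Module A N] [AddCommGroup N'] [Module A N']
      {X Y : Type u} [AddCommGroup X] [Module A X] [AddCommGroup Y] [Module A Y] (d : X →ₗ[A] Y)
      (f : N →ₗ[A] N') (z : X ⊗[A] N), d.rTensor N' (f.lTensor X z) = f.lTensor Y (d.rTensor N z) := by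
    intro N N' _ _ _ _ X Y _ _ _ _ d f z
    rw [← LinearMap.comp_apply, ← LinearMap.comp_apply, LinearMap.rTensor_comp_lTensor,
      LinearMap.lTensor_comp_rTensor]
  intro x
  constructor
  · intro hx
    obtain ⟨S, hS, x₀, hx₀⟩ : ∃ (S : Submodule A N) (_ : S.FG) (x₀ : P.X j ⊗[A] S), S.subtype.lTensor _ x₀ = x := by
      obtain ⟨S, hS, h⟩ := TensorProduct.exists_finite_submodule_right_of_setFinite ({x} : Set (P.X j ⊗[A] N))
        (Set.finite_singleton x)
      obtain ⟨x₀, hx₀⟩ := h rfl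
      exact ⟨S, Module.Finite.iff_fg.1 hS, x₀, hx₀⟩
    obtain ⟨T, hST, hT⟩ := h S hS
    rw [exactAt_tensorCx_iff P _ hij hjk] at hT
    let x₁ : P.X j ⊗[A] T := (Submodule.inclusion hST).lTensor _ x₀
    have hx₁ : T.subtype.lTensor _ x₁ = x := by
      rw [← hx₀, ← LinearMap.comp_apply, ← LinearMap.lTensor_comp]
      rfl
    have h6 : d'.rTensor T x₁ = 0 := by
      apply Module.Flat.lTensor_preserves_injective_linearMap (M := P.X (j + 1)) T.subtype T.injective_subtype
      rw [← comm, hx₁, map_zero]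
      exact hx
    obtain ⟨y₁, hy₁⟩ := (hT _).1 h6
    refine ⟨T.subtype.lTensor _ y₁, ?_⟩
    have h7 : d.rTensor N (T.subtype.lTensor _ y₁) = x := by
      rw [comm, show d.rTensor T y₁ = x₁ from hy₁, hx₁]
    exact h7
  · rintro ⟨y, rfl⟩
    exact hdd y

end Ext

section BaseChange

open Groth.Agent.LoccohB

variable (B : Type u) [CommRing B] [Algebra A B] (N : Type u) [AddCommGroup N] [Module A N] [Module B N]
  [IsScalarTower A B N]

/-- `(B ⊗_A M) ⊗_B N = M ⊗_A N`. -/
noncomputable def cbc (M : ModuleCat.{u} A) :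
    (ModuleCat.extendScalars.{u, u, u} (algebraMap A B)).obj M ⊗[B] N ≃+ M ⊗[A] N :=
  ((TensorProduct.congr (FlatLBC.extEquiv A B M).symm (LinearEquiv.refl B N)).toAddEquiv.trans
    (TensorProduct.comm B (B ⊗[A] M) N).toAddEquiv).trans
    ((AlgebraTensorModule.cancelBaseChange A B B N M).toAddEquiv.trans (TensorProduct.comm A N M).toAddEquiv)

lemma cbc_tmul (M : ModuleCat.{u} A) (b : B) (m : M) (n : N) :
    cbc B N M ((FlatLBC.extEquiv A B M (b ⊗ₜ[A] m)) ⊗ₜ[B] n) = m ⊗ₜ[A] (b • n) := by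
  change TensorProduct.comm A N M (AlgebraTensorModule.cancelBaseChange A B B N M
    (TensorProduct.comm B (B ⊗[A] M) N (TensorProduct.congr (FlatLBC.extEquiv A B M).symm (LinearEquiv.refl B N)
      (FlatLBC.extEquiv A B M (b ⊗ₜ[A] m) ⊗ₜ[B] n)))) = _
  rw [TensorProduct.congr_tmul, LinearEquiv.symm_apply_apply, TensorProduct.comm_tmul,
    AlgebraTensorModule.cancelBaseChange_tmul, TensorProduct.comm_tmul]
  rfl

lemma cbc_naturality {M M' : ModuleCat.{u} A} (f : M ⟶ M')
    (z : (ModuleCat.extendScalars.{u, u, u} (algebraMap A B)).obj M ⊗[B] N) :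
    cbc B N M' ((((ModuleCat.extendScalars.{u, u, u} (algebraMap A B)).map f).hom.rTensor N) z) =
      f.hom.rTensor N (cbc B N M z) := by
  induction z using TensorProduct.induction_on with
  | zero => simp only [map_zero]
  | add x y hx hy => simp only [map_add, hx, hy]
  | tmul x n =>
    obtain ⟨t, rfl⟩ := (FlatLBC.extEquiv A B M).surjective x
    induction t using TensorProduct.induction_on with
    | zero => simp only [map_zero, TensorProduct.zero_tmul]
    | add x y hx hy => simp only [map_add, TensorProduct.add_tmul, hx, hy]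
    | tmul b m =>
      rw [LinearMap.rTensor_tmul]
      have h1 : ((ModuleCat.extendScalars.{u, u, u} (algebraMap A B)).map f).hom (FlatLBC.extEquiv A B M (b ⊗ₜ[A] m)) =
        FlatLBC.extEquiv A B M' (b ⊗ₜ[A] (f.hom m)) := rfl
      rw [h1, cbc_tmul, cbc_tmul, LinearMap.rTensor_tmul]

/-- `P ⊗_A N` and `(B ⊗_A P) ⊗_B N` are simultaneously exact. -/
theorem exactAt_iff_baseChange (P : Cx A) (j : ℤ) :
    (tensorCx P (ModuleCat.of A N)).ExactAt j ↔
      (tensorCx (((ModuleCat.extendScalars.{u, u, u} (algebraMap A B)).mapHomologicalComplex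
        (ComplexShape.up ℤ)).obj P) (ModuleCat.of B N)).ExactAt j := by
  have hij : j - 1 + 1 = j := by omega
  have hjk : j + 1 = j + 1 := rfl
  rw [exactAt_tensorCx_iff P _ hij hjk, exactAt_tensorCx_iff _ _ hij hjk]
  refine Function.Exact.iff_of_ladder_addEquiv (cbc B N (P.X (j - 1))) (cbc B N (P.X j)) (cbc B N (P.X (j + 1)))
    (f₁₂ := (((ModuleCat.extendScalars.{u, u, u} (algebraMap A B)).map (P.d (j - 1) j)).hom.rTensor N).toAddMonoidHom)
    (f₂₃ := (((ModuleCat.extendScalars.{u, u, u} (algebraMap A B)).map (P.d j (j + 1))).hom.rTensor N).toAddMonoidHom)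
    (g₁₂ := ((P.d (j - 1) j).hom.rTensor N).toAddMonoidHom)
    (g₂₃ := ((P.d j (j + 1)).hom.rTensor N).toAddMonoidHom) ?_ ?_
  · ext z
    exact (cbc_naturality B N (P.d (j - 1) j) z).symm
  · ext z
    exact (cbc_naturality B N (P.d j (j + 1)) z).symm

end BaseChange

end K232.TenMod
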