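import Groth.Agent.DRing.K232.FinLen
import Groth.Agent.DRing.K227.PerfFlat

/-!
# Exactness of `P ⊗ N`: kernels, power torsion modules, reduction to `R/f` and `R_f`
-/

set_option autoImplicit false

universe u

open CategoryTheory CategoryTheory.Limits TensorProduct

attribute [local instance] HasDerivedCategory.standard

namespace K232.TenMod2

open DRing K227.TorCrit K232.TenMod K232.FinLen Groth.Agent.LoccohB

variable {A : Type u} [CommRing A]

section Ker

variable (P : Cx A) (hP : TermwiseFlat P)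

lemma rTensor_lTensor_comm {N N' : Type u} [AddCommGroup N] [Module A N] [AddCommGroup N'] [Module A N']
      {X Y : Type u} [AddCommGroup X] [Module A X] [AddCommGroup Y] [Module A Y] (d : X →ₗ[A] Y)
      (f : N →ₗ[A] N') (z : X ⊗[A] N) : d.rTensor N' (f.lTensor X z) = f.lTensor Y (d.rTensor N z) := by
  rw [← LinearMap.comp_apply, ← LinearMap.comp_apply, LinearMap.rTensor_comp_lTensor,
    LinearMap.lTensor_comp_rTensor]

lemma rTensor_d_d {i j k : ℤ} {N : Type u} [AddCommGroup N] [Module A N] (z : P.X i ⊗[A] N) :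
    (P.d j k).hom.rTensor N ((P.d i j).hom.rTensor N z) = 0 := by
  rw [← LinearMap.comp_apply, ← LinearMap.rTensor_comp]
  have : (P.d j k).hom ∘ₗ (P.d i j).hom = 0 := by
    rw [← ModuleCat.hom_comp, P.d_comp_d]
    rfl
  rw [this, LinearMap.rTensor_zero]
  rfl

include hP in
/-- `H^{j-1}(P ⊗ N₃) = 0 = H^j(P ⊗ N₂)` implies `H^j(P ⊗ N₁) = 0`. -/
theorem exactAt_ker {N₁ N₂ N₃ : Type u} [AddCommGroup N₁] [Module A N₁] [AddCommGroup N₂] [Module A N₂]
    [AddCommGroup N₃] [Module A N₃] (f : N₁ →ₗ[A] N₂) (g : N₂ →ₗ[A] N₃) (hf : Function.Injective f)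
    (hfg : Function.Exact f g) (hg : Function.Surjective g) (i j : ℤ) (hij : i + 1 = j)
    (h₂ : (tensorCx P (ModuleCat.of A N₂)).ExactAt j) (h₃ : (tensorCx P (ModuleCat.of A N₃)).ExactAt i) :
    (tensorCx P (ModuleCat.of A N₁)).ExactAt j := by
  have hh : i - 1 + 1 = i := by omega
  have hjk : j + 1 = j + 1 := rfl
  rw [exactAt_tensorCx_iff P _ hij hjk] at h₂ ⊢
  rw [exactAt_tensorCx_iff P _ hh hij] at h₃
  have := hP j
  intro x
  constructor
  · intro hx
    obtain ⟨y, hy⟩ := (h₂ (f.lTensor _ x)).1 (by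
      have h4 := rTensor_lTensor_comm (P.d j (j + 1)).hom f x
      refine h4.trans ?_
      erw [hx]
      rw [map_zero])
    change P.X i ⊗[A] N₂ at y
    change (P.d i j).hom.rTensor N₂ y = f.lTensor _ x at hy
    obtain ⟨z₃, hz₃⟩ := (h₃ (g.lTensor _ y)).1 (by
      have h4 := rTensor_lTensor_comm (P.d i j).hom g y
      refine h4.trans ?_
      rw [hy, ← LinearMap.comp_apply, ← LinearMap.lTensor_comp, hfg.linearMap_comp_eq_zero, LinearMap.lTensor_zero]
      rfl)
    change P.X (i - 1) ⊗[A] N₃ at z₃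
    change (P.d (i - 1) i).hom.rTensor N₃ z₃ = g.lTensor _ y at hz₃
    obtain ⟨z, rfl⟩ := LinearMap.lTensor_surjective (P.X (i - 1)) hg z₃
    have h5 : g.lTensor _ (y - (P.d (i - 1) i).hom.rTensor N₂ z) = 0 := by
      rw [map_sub, ← rTensor_lTensor_comm, sub_eq_zero]
      exact hz₃.symm
    obtain ⟨y₁, hy₁⟩ := (lTensor_exact (P.X i) hfg hg _).1 h5
    refine ⟨y₁, ?_⟩
    have h6 : (P.d i j).hom.rTensor N₁ y₁ = x := by
      apply Module.Flat.lTensor_preserves_injective_linearMap (M := P.X j) f hf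
      rw [← rTensor_lTensor_comm, hy₁, map_sub, rTensor_d_d, sub_zero, hy]
    exact h6
  · rintro ⟨y, rfl⟩
    exact rTensor_d_d P y

end Ker

section Pow

variable (P : Cx A) (hP : TermwiseFlat P) (f : A)

include hP in
theorem exactAt_of_pow (j : ℤ)
    (h₁ : ∀ (N : Type u) [AddCommGroup N] [Module A N], (∀ x : N, f • x = 0) →
      (tensorCx P (ModuleCat.of A N)).ExactAt j) (n : ℕ) :
    ∀ (N : Type u) [AddCommGroup N] [Module A N], (∀ x : N, f ^ n • x = 0) →
      (tensorCx P (ModuleCat.of A N)).ExactAt j := by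
  induction n with
  | zero =>
    intro N _ _ h
    have : Subsingleton N := subsingleton_of_forall_eq 0 fun x => by
      have := h x
      rwa [pow_zero, one_smul] at this
    exact exactAt_of_subsingleton P N j
  | succ n ih =>
    intro N _ _ h
    let N' : Submodule A N := LinearMap.range (f • (LinearMap.id : N →ₗ[A] N))
    refine exactAt_ext P hP N'.subtype N'.mkQ N'.injective_subtype (LinearMap.exact_subtype_mkQ N')
      N'.mkQ_surjective j (ih N' ?_) (h₁ (N ⧸ N') ?_)
    · rintro ⟨x, y, rfl⟩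
      apply Subtype.ext
      change f ^ n • (f • y) = 0
      rw [smul_smul, ← pow_succ, h]
    · intro x
      obtain ⟨x, rfl⟩ := N'.mkQ_surjective x
      rw [← map_smul]
      change Submodule.Quotient.mk (f • x) = 0
      rw [Submodule.Quotient.mk_eq_zero]
      exact ⟨x, rfl⟩

include hP in
theorem exactAt_of_powerTorsion (j : ℤ)
    (h₁ : ∀ (N : Type u) [AddCommGroup N] [Module A N], (∀ x : N, f • x = 0) →
      (tensorCx P (ModuleCat.of A N)).ExactAt j)
    (N : Type u) [AddCommGroup N] [Module A N] (hN : ∀ x : N, ∃ n : ℕ, f ^ n • x = 0) :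
    (tensorCx P (ModuleCat.of A N)).ExactAt j := by
  refine exactAt_of_forall_finset P hP j fun S hS => ⟨S, le_rfl, ?_⟩
  obtain ⟨s, rfl⟩ := hS
  choose n hn using hN
  refine exactAt_of_pow P hP f j h₁ (∑ x ∈ s, n x) _ ?_
  rintro ⟨x, hx⟩
  apply Subtype.ext
  change f ^ (∑ x ∈ s, n x) • x = 0
  induction hx using Submodule.span_induction with
  | mem x hx =>
    obtain ⟨k, hk⟩ := Nat.exists_eq_add_of_le (Finset.single_le_sum (f := n) (fun _ _ => Nat.zero_le _) hx)
    rw [hk, add_comm, pow_add, mul_smul, hn, smul_zero]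
  | zero => rw [smul_zero]
  | add x y _ _ hx hy => rw [smul_add, hx, hy, add_zero]
  | smul a x _ hx => rw [smul_comm, hx, smul_zero]

include hP in
/-- Reduction to modules killed by `f` and modules on which `f` is invertible. -/
theorem exactAt_of_quot_of_away (j : ℤ)
    (h₁ : ∀ (i : ℤ), i ≤ j → ∀ (N : Type u) [AddCommGroup N] [Module A N], (∀ x : N, f • x = 0) →
      (tensorCx P (ModuleCat.of A N)).ExactAt i)
    (h₂ : ∀ (N : Type u) [AddCommGroup N] [Module A N] [Module (Localization.Away f) N]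
      [IsScalarTower A (Localization.Away f) N], (tensorCx P (ModuleCat.of A N)).ExactAt j)
    (N : Type u) [AddCommGroup N] [Module A N] : (tensorCx P (ModuleCat.of A N)).ExactAt j := by
  let L := LocalizedModule (Submonoid.powers f) N
  let ι : N →ₗ[A] L := LocalizedModule.mkLinearMap (Submonoid.powers f) N
  have hL : (tensorCx P (ModuleCat.of A L)).ExactAt j := h₂ L
  have hC : (tensorCx P (ModuleCat.of A (L ⧸ LinearMap.range ι))).ExactAt (j - 1) := by
    refine exactAt_of_powerTorsion P hP f (j - 1) (h₁ (j - 1) (by omega)) _ ?_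
    intro x
    obtain ⟨x, rfl⟩ := (LinearMap.range ι).mkQ_surjective x
    obtain ⟨⟨m, s⟩, hs⟩ := IsLocalizedModule.surj (Submonoid.powers f) ι x
    obtain ⟨n, hn⟩ := s.2
    refine ⟨n, ?_⟩
    rw [← map_smul]
    change Submodule.Quotient.mk (f ^ n • x) = 0
    rw [Submodule.Quotient.mk_eq_zero]
    refine ⟨m, ?_⟩
    rw [← hs, Submonoid.smul_def, ← hn]
  have hR : (tensorCx P (ModuleCat.of A (LinearMap.range ι))).ExactAt j :=
    exactAt_ker P hP (LinearMap.range ι).subtype (LinearMap.range ι).mkQ (LinearMap.range ι).injective_subtype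
      (LinearMap.exact_subtype_mkQ _) (LinearMap.range ι).mkQ_surjective (j - 1) j (by omega) hL hC
  have hK : (tensorCx P (ModuleCat.of A (LinearMap.ker ι))).ExactAt j := by
    refine exactAt_of_powerTorsion P hP f j (h₁ j le_rfl) _ ?_
    rintro ⟨x, hx⟩
    obtain ⟨s, hs⟩ := (IsLocalizedModule.eq_zero_iff (Submonoid.powers f) ι).1 hx
    obtain ⟨n, hn⟩ := s.2
    refine ⟨n, Subtype.ext ?_⟩
    change f ^ n • x = 0
    rw [← hs, Submonoid.smul_def, ← hn]
  exact exactAt_ext P hP (LinearMap.ker ι).subtype ι.rangeRestrict (LinearMap.ker ι).injective_subtype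
    (by rw [LinearMap.exact_iff, LinearMap.ker_rangeRestrict, Submodule.range_subtype]) ι.surjective_rangeRestrict j hK hR

end Pow

section LBC

variable (B : Type u) [CommRing B] [Algebra A B]

lemma termwiseFlat_ext (P : Cx A) (hP : TermwiseFlat P) :
    TermwiseFlat (((ModuleCat.extendScalars.{u, u, u} (algebraMap A B)).mapHomologicalComplex
        (ComplexShape.up ℤ)).obj P) := fun i => by
  have := hP i
  exact Module.Flat.of_linearEquiv (FlatLBC.extEquiv A B (P.X i)).symm

/-- If the derived base change of `K` to `B` has tor amplitude in `[a, b]` then `H^i(K ⊗ᴸ N) = 0` for `i` outside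
`[a, b]` and every `B`-module `N`. -/
theorem exactAt_of_torAmp_lbc [HasLBaseChange (algebraMap A B)] (P : Cx A) [P.IsKProjective] (hP : TermwiseFlat P) (c : ℤ) (hc : VanishesAbove P c)
    (K : Dual.D A) (e : toD P ≅ K) (a b : ℤ)
    (h : HasTorAmplitudeIn B a b ((LBaseChange (algebraMap A B)).obj K))
    (N : Type u) [AddCommGroup N] [Module A N] [Module B N] [IsScalarTower A B N] (i : ℤ) (hi : i < a ∨ b < i) :
    (tensorCx P (ModuleCat.of A N)).ExactAt i := by
  rw [exactAt_iff_baseChange B N P i]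
  have h1 : HasTorAmplitudeIn B a b (toD (((ModuleCat.extendScalars.{u, u, u} (algebraMap A B)).mapHomologicalComplex
        (ComplexShape.up ℤ)).obj P)) := by
    obtain ⟨E, h3, h4, ⟨e'⟩⟩ := h
    exact ⟨E, h3, h4, ⟨e' ≪≫ (LBaseChange (algebraMap A B)).mapIso e.symm ≪≫ LBC.lbcQIso (algebraMap A B) P⟩⟩
  exact (torAmp_iff_tensorCx _ c (fun i hi => (ModuleCat.extendScalars.{u, u, u} (algebraMap A B)).map_isZero (hc i hi))
    (termwiseFlat_ext B P hP) a b).1 h1 _ i hi

end LBC

/-- A flat module has tor amplitude in `[0, 0]`. -/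
lemma torAmp_inD_of_flat (B : Type u) [CommRing B] (N : Type u) [AddCommGroup N] [Module B N] [Module.Flat B N] :
    HasTorAmplitudeIn B 0 0 (Dual.inD B N) := by
  refine ⟨(CochainComplex.singleFunctor (ModuleCat.{u} B) 0).obj (ModuleCat.of B N), ?_, ?_,
    ⟨((DerivedCategory.singleFunctorIsoCompQ (ModuleCat.{u} B) 0).app (ModuleCat.of B N)).symm⟩⟩
  · intro i hi
    exact HomologicalComplex.isZero_single_obj_X (ComplexShape.up ℤ) 0 (ModuleCat.of B N) i (by omega)
  · intro i
    by_cases hi : i = 0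
    · subst hi
      exact Module.Flat.of_linearEquiv
        (HomologicalComplex.singleObjXSelf (ComplexShape.up ℤ) 0 (ModuleCat.of B N)).toLinearEquiv
    · have := ModuleCat.subsingleton_of_isZero
        (HomologicalComplex.isZero_single_obj_X (ComplexShape.up ℤ) 0 (ModuleCat.of B N) i hi)
      exact inferInstanceAs (Module.Flat B (((HomologicalComplex.single _ (ComplexShape.up ℤ) 0).obj
        (ModuleCat.of B N)).X i))

/-- An object of tor amplitude `[0, 0]` is a flat module. -/
lemma exists_flat_of_torAmp (K : Dual.D A) (h : HasTorAmplitudeIn A 0 0 K) :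
    ∃ (N : Type u) (_ : AddCommGroup N) (_ : Module A N), Module.Flat A N ∧ Nonempty (K ≅ Dual.inD A N) := by
  obtain ⟨E, h1, h2, ⟨e⟩⟩ := h
  have h3 : E.IsStrictlyGE 0 := by
    rw [CochainComplex.isStrictlyGE_iff]
    exact fun i hi => h1 i (Or.inl hi)
  have h4 : E.IsStrictlyLE 0 := by
    rw [CochainComplex.isStrictlyLE_iff]
    exact fun i hi => h1 i (Or.inr hi)
  obtain ⟨M, ⟨e'⟩⟩ := CochainComplex.exists_iso_single E 0
  have h5 : Module.Flat A M := by
    have := h2 0
    let e₁ : E.X 0 ≅ ((HomologicalComplex.single (ModuleCat.{u} A) (ComplexShape.up ℤ) 0).obj M).X 0 :=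
      (HomologicalComplex.eval _ _ 0).mapIso e'
    let e₂ : E.X 0 ≅ M := e₁ ≪≫ HomologicalComplex.singleObjXSelf (ComplexShape.up ℤ) 0 M
    exact Module.Flat.of_linearEquiv e₂.symm.toLinearEquiv
  exact ⟨M, inferInstance, inferInstance, h5, ⟨e.symm ≪≫ DerivedCategory.Q.mapIso e' ≪≫
    ((DerivedCategory.singleFunctorIsoCompQ (ModuleCat.{u} A) 0).app M).symm⟩⟩

/-- **Flatness from `R_f` and `R/f`**. -/
theorem torAmp_of_quot_of_away (f : A) (K : Dual.D A) [HasLBaseChange (algebraMap A (Localization.Away f))]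
    [HasLBaseChange (Ideal.Quotient.mk (Ideal.span ({f} : Set A)))] (a b : ℤ)
    (h1 : ∀ i : ℤ, b < i → Subsingleton (Dual.HD A K i))
    (h2 : HasTorAmplitudeIn (Localization.Away f) a b ((LBaseChange (algebraMap A (Localization.Away f))).obj K))
    (h3 : HasTorAmplitudeIn (A ⧸ Ideal.span ({f} : Set A)) a b
      ((LBaseChange (Ideal.Quotient.mk (Ideal.span ({f} : Set A)))).obj K)) :
    HasTorAmplitudeIn A a b K := by
  obtain ⟨P, hP0, hPp, ⟨e⟩⟩ := K227.PerfFlat.exists_projective_rep K b h1
  have hPs : CochainComplex.IsStrictlyLE P b := by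
    rw [CochainComplex.isStrictlyLE_iff]
    exact hP0
  have : P.IsKProjective := CochainComplex.isKProjective_of_projective P b
  have hPf : TermwiseFlat P := fun i => by
    have h5 : Module.Projective A (P.X i) := (IsProjective.iff_projective (R := A) (P.X i)).2 (hPp i)
    infer_instance
  have key : HasTorAmplitudeIn A a b (toD P) := by
    rw [torAmp_iff_tensorCx P b hP0 hPf]
    intro N i hi
    obtain hi | hi := hi
    · refine exactAt_of_quot_of_away P hPf f i ?_ ?_ N
      · intro j hj N _ _ hN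
        have hN' : Module.IsTorsionBySet A N (Ideal.span ({f} : Set A) : Set A) := by
          rw [Module.isTorsionBySet_span_singleton_iff]
          exact fun x => hN x
        let _ : Module (A ⧸ Ideal.span ({f} : Set A)) N := hN'.module
        have : IsScalarTower A (A ⧸ Ideal.span ({f} : Set A)) N := hN'.isScalarTower
        have : HasLBaseChange (algebraMap A (A ⧸ Ideal.span ({f} : Set A))) :=
          inferInstanceAs (HasLBaseChange (Ideal.Quotient.mk (Ideal.span ({f} : Set A))))
        exact exactAt_of_torAmp_lbc (A ⧸ Ideal.span ({f} : Set A)) P hPf b hP0 K e a b h3 N j (Or.inl (by omega))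
      · intro N _ _ _ _
        exact exactAt_of_torAmp_lbc (Localization.Away f) P hPf b hP0 K e a b h2 N i (Or.inl hi)
    · rw [HomologicalComplex.exactAt_iff]
      apply ShortComplex.exact_of_isZero_X₂
      exact (MonoidalCategory.tensorRight N).map_isZero (hP0 i hi)
  obtain ⟨E, h3, h4, ⟨e'⟩⟩ := key
  exact ⟨E, h3, h4, ⟨e' ≪≫ e⟩⟩

end K232.TenMod2
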