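import Groth.Agent.Cohder.SESInj
import Mathlib.Algebra.Homology.HomotopyCategory.KInjective
import Mathlib.Algebra.Homology.DerivedCategory.KInjective

/-!
# Morphisms in the derived category from a complex with projective top term

`M` a complex with `M^i = 0` for `i > 0` and `M^0` projective, `K` a complex with `K^i = 0` for `i ≤ -2`:
`Hom_K(M, K) → Hom_D(M, K)` is bijective.
-/

set_option autoImplicit false

universe v u w

open CategoryTheory Category Limits HomologicalComplex CochainComplex CochainComplex.HomComplex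

namespace K232.TopHom

variable {C : Type u} [Category.{v} C] [Abelian C]

section

variable {M J Z : CochainComplex C ℤ} (hM : ∀ i : ℤ, 0 < i → IsZero (M.X i))
  (hZ : Z.Acyclic) (hZ' : ∀ i : ℤ, i ≤ -2 → IsZero (Z.X i))

include hZ hZ' in
lemma mono_d : Mono (Z.d (-1) 0) := by
  have h := hZ (-1)
  rw [HomologicalComplex.exactAt_iff' _ (-2) (-1) 0 (by simp) (by simp)] at h
  exact (ShortComplex.exact_iff_mono _ ((hZ' (-2) le_rfl).eq_of_src _ _)).1 h

include hM hZ hZ' in
/-- A cochain of degree `-1` with values in `Z` which is a cocycle vanishes. -/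
lemma cochain_eq_zero (z : Cochain M Z (-1)) (hz : δ (-1) 0 z = 0) : z = 0 := by
  ext p q hpq
  obtain hp | rfl | hp := lt_trichotomy p 0
  · exact (hZ' q (by omega)).eq_of_tgt _ _
  · obtain rfl : q = -1 := by omega
    have h := Cochain.congr_v hz 0 0 (add_zero 0)
    rw [δ_v (-1) 0 (by simp) z 0 0 (by simp) (-1) 1 (by simp) (by simp)] at h
    have h1 : M.d 0 1 = 0 := (hM 1 (by omega)).eq_of_tgt _ _
    rw [h1, zero_comp, smul_zero, add_zero] at h
    have := mono_d hZ hZ'
    rw [← cancel_mono (Z.d (-1) 0), h]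
    simp
  · exact (hM p hp).eq_of_src _ _

include hM hZ hZ' in
/-- A chain map to `Z` is null homotopic by a homotopy concentrated in degree `0`. -/
lemma exists_null [Projective (M.X 0)] (f : M ⟶ Z) :
    ∃ c : M.X 0 ⟶ Z.X (-1), Cochain.ofHom f = δ (-1) 0 (Cochain.single c (-1)) := by
  have h0 := hZ 0
  rw [HomologicalComplex.exactAt_iff' _ (-1) 0 1 (by simp) (by simp)] at h0
  have h1 : M.d 0 1 = 0 := (hM 1 (by omega)).eq_of_tgt _ _
  have h2 : f.f 0 ≫ Z.d 0 1 = 0 := by rw [f.comm, h1, zero_comp]
  let c : M.X 0 ⟶ Z.X (-1) := h0.liftFromProjective (f.f 0) h2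
  have hc : c ≫ Z.d (-1) 0 = f.f 0 := h0.liftFromProjective_comp (f.f 0) h2
  refine ⟨c, ?_⟩
  rw [Cochain.δ_single c (-1) 0 (by simp) (-1) 0 (by simp) (by simp)]
  ext p
  rw [Cochain.ofHom_v, Cochain.add_v, Int.negOnePow_zero, one_smul]
  obtain hp | rfl | hp := lt_trichotomy p 0
  · rw [Cochain.single_v_eq_zero _ _ _ _ _ (by omega), zero_add]
    obtain hp | rfl := (show p ≤ -1 by omega).lt_or_eq
    · exact (hZ' p (by omega)).eq_of_tgt _ _
    · rw [Cochain.single_v]
      have := mono_d hZ hZ'
      rw [← cancel_mono (Z.d (-1) 0), f.comm, assoc, hc]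
  · rw [Cochain.single_v, hc, Cochain.single_v_eq_zero _ _ _ _ _ (by omega), add_zero]
  · exact (hM p hp).eq_of_src _ _

end

section

variable {M K J : CochainComplex C ℤ} (hM : ∀ i : ℤ, 0 < i → IsZero (M.X i)) [Projective (M.X 0)]
  (j : K ⟶ J) [Mono j] [QuasiIso j] (hJ : ∀ i : ℤ, i ≤ -2 → IsZero (J.X i))

omit [QuasiIso j] in
lemma shortExact_cokernel : (ShortComplex.mk j (cokernel.π j) (cokernel.condition j)).ShortExact where
  exact := ShortComplex.exact_cokernel j
  mono_f := by dsimp; infer_instance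
  epi_g := by dsimp; infer_instance

lemma acyclic_cokernel : (cokernel j).Acyclic :=
  (shortExact_cokernel j).acyclic_X₃ inferInstance

omit [QuasiIso j] [Mono j] in
include hJ in
lemma isZero_cokernel (i : ℤ) (hi : i ≤ -2) : IsZero ((cokernel j).X i) := by
  have h : Epi ((cokernel.π j).f i) := inferInstance
  exact (hJ i hi).of_epi ((cokernel.π j).f i)

omit [Projective (M.X 0)] in
include hM hJ in
/-- Morphisms to `K` which become null-homotopic in `J` are null-homotopic. -/
lemma quotient_map_eq_zero (f : M ⟶ K) (hf : (HomotopyCategory.quotient C (ComplexShape.up ℤ)).map (f ≫ j) = 0) :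
    (HomotopyCategory.quotient C (ComplexShape.up ℤ)).map f = 0 := by
  have hZ := acyclic_cokernel j
  have hZ' := isZero_cokernel j hJ
  have hf' : Nonempty (Homotopy (f ≫ j) 0) := ⟨HomotopyCategory.homotopyOfEq _ _ (by rw [hf, Functor.map_zero])⟩
  obtain ⟨z, hz⟩ := Cochain.equivHomotopy _ _ hf'.some
  rw [Cochain.ofHom_zero, add_zero] at hz
  have h1 : z.comp (Cochain.ofHom (cokernel.π j)) (add_zero (-1)) = 0 := by
    apply cochain_eq_zero hM hZ hZ'
    rw [δ_comp_ofHom, ← hz, ← Cochain.ofHom_comp, assoc, cokernel.condition, comp_zero, Cochain.ofHom_zero]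
  have h2 : ∀ (p q : ℤ) (hpq : p + (-1) = q), z.v p q hpq ≫ (cokernel.π j).f q = 0 := by
    intro p q hpq
    have := Cochain.congr_v h1 p q hpq
    rwa [Cochain.comp_zero_cochain_v, Cochain.ofHom_v, Cochain.zero_v] at this
  have h3 : ∀ (q : ℤ), (ShortComplex.mk (j.f q) ((cokernel.π j).f q)
      (by rw [← HomologicalComplex.comp_f, cokernel.condition, HomologicalComplex.zero_f])).ShortExact := fun q =>
    (shortExact_cokernel j).map_of_exact (HomologicalComplex.eval C (ComplexShape.up ℤ) q)
  let z' : Cochain M K (-1) := Cochain.mk (fun p q hpq =>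
    haveI := (h3 q).mono_f
    (h3 q).exact.lift (z.v p q hpq) (h2 p q hpq))
  have hz' : z'.comp (Cochain.ofHom j) (add_zero (-1)) = z := by
    ext p q hpq
    rw [Cochain.comp_zero_cochain_v, Cochain.ofHom_v]
    have := (h3 q).mono_f
    exact (h3 q).exact.lift_f (z.v p q hpq) (h2 p q hpq)
  have h4 : Cochain.ofHom f = δ (-1) 0 z' := by
    have h5 : (Cochain.ofHom f).comp (Cochain.ofHom j) (add_zero 0) =
        (δ (-1) 0 z').comp (Cochain.ofHom j) (add_zero 0) := by
      rw [← δ_comp_ofHom, hz', ← hz, Cochain.ofHom_comp]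
    ext p
    have h6 := Cochain.congr_v h5 p p (add_zero p)
    rw [Cochain.comp_zero_cochain_v, Cochain.comp_zero_cochain_v, Cochain.ofHom_v, Cochain.ofHom_v] at h6
    have := (h3 p).mono_f
    dsimp at this
    rw [Cochain.ofHom_v]
    exact (cancel_mono (j.f p)).1 h6
  have h5 : Homotopy f 0 := (Cochain.equivHomotopy f 0).symm ⟨z', by rw [Cochain.ofHom_zero, add_zero, h4]⟩
  rw [HomotopyCategory.eq_of_homotopy _ _ h5, Functor.map_zero]

include hM hJ in
/-- Every chain map to `J` is homotopic to one which factors through `K`. -/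
lemma exists_factor (g : M ⟶ J) : ∃ f : M ⟶ K,
    (HomotopyCategory.quotient C (ComplexShape.up ℤ)).map (f ≫ j) =
      (HomotopyCategory.quotient C (ComplexShape.up ℤ)).map g := by
  have hZ := acyclic_cokernel j
  have hZ' := isZero_cokernel j hJ
  obtain ⟨c, hc⟩ := exists_null hM hZ hZ' (g ≫ cokernel.π j)
  have h3 : Epi ((cokernel.π j).f (-1)) := inferInstance
  let h : M.X 0 ⟶ J.X (-1) := Projective.factorThru c ((cokernel.π j).f (-1))
  have hh : h ≫ (cokernel.π j).f (-1) = c := Projective.factorThru_comp _ _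
  let w : Cochain M J (-1) := Cochain.single h (-1)
  have hw : w.comp (Cochain.ofHom (cokernel.π j)) (add_zero (-1)) = Cochain.single c (-1) := by
    ext p q hpq
    rw [Cochain.comp_zero_cochain_v, Cochain.ofHom_v]
    by_cases hp : p = 0
    · subst hp
      obtain rfl : q = -1 := by omega
      rw [Cochain.single_v, Cochain.single_v, hh]
    · rw [Cochain.single_v_eq_zero _ _ _ _ _ hp, Cochain.single_v_eq_zero _ _ _ _ _ hp, zero_comp]
  let s : M ⟶ J := Cocycle.homOf (Cocycle.mk (δ (-1) 0 w) 1 (by simp) (by rw [δ_δ]))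
  have hs : Cochain.ofHom s = δ (-1) 0 w := by
    dsimp only [s]
    rw [Cocycle.cochain_ofHom_homOf_eq_coe]
    rfl
  have h5 : (g - s) ≫ cokernel.π j = 0 := by
    apply (Cochain.ofHom_injective (F := M) (G := cokernel j))
    rw [Preadditive.sub_comp, Cochain.ofHom_sub, Cochain.ofHom_zero, hc, Cochain.ofHom_comp, hs, ← δ_comp_ofHom, hw,
      sub_self]
  let f : M ⟶ K := (shortExact_cokernel j).exact.lift (g - s) h5
  have hf : f ≫ j = g - s := (shortExact_cokernel j).exact.lift_f (g - s) h5
  refine ⟨f, ?_⟩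
  rw [hf]
  apply HomotopyCategory.eq_of_homotopy
  refine (Cochain.equivHomotopy _ _).symm ⟨-w, ?_⟩
  rw [Cochain.ofHom_sub, hs, δ_neg]
  abel

end

section

variable [HasDerivedCategory.{w} C] [EnoughInjectives C]

/-- `Hom_K(M, K) → Hom_D(M, K)` is bijective for `M` with projective top term in degree `0` and `K` in
degrees `≥ -1`. -/
theorem bijective_Qh_map (M K : CochainComplex C ℤ) (hM : ∀ i : ℤ, 0 < i → IsZero (M.X i))
    [Projective (M.X 0)] (hK : ∀ i : ℤ, i ≤ -2 → IsZero (K.X i)) :
    Function.Bijective (fun φ : (HomotopyCategory.quotient C (ComplexShape.up ℤ)).obj M ⟶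
        (HomotopyCategory.quotient C (ComplexShape.up ℤ)).obj K => DerivedCategory.Qh.map φ) := by
  have hK' : K.IsStrictlyGE (-1) := by
    rw [CochainComplex.isStrictlyGE_iff]
    exact fun i hi => hK i (by omega)
  obtain ⟨J, j, h1, h2, h3, h4⟩ := Groth.Agent.Cohder.SESInj.exists_mono_quasiIso_injective K (-1)
  have hJ : ∀ i : ℤ, i ≤ -2 → IsZero (J.X i) := fun i hi => J.isZero_of_isStrictlyGE (-1) i (by omega)
  have h5 : J.IsKInjective := CochainComplex.isKInjective_of_injective J (-1)
  let j' := (HomotopyCategory.quotient C (ComplexShape.up ℤ)).map j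
  have h6 : IsIso (DerivedCategory.Qh.map j') := by
    have : IsIso (DerivedCategory.Q.map j) := inferInstance
    have e := (DerivedCategory.quotientCompQhIso C).hom.naturality j
    have h7 : IsIso ((HomotopyCategory.quotient C (ComplexShape.up ℤ) ⋙ DerivedCategory.Qh).map j ≫
        (DerivedCategory.quotientCompQhIso C).hom.app J) := by
      rw [e]
      infer_instance
    have h7' : IsIso (DerivedCategory.Qh.map j' ≫ (DerivedCategory.quotientCompQhIso C).hom.app J) := h7
    exact IsIso.of_isIso_comp_right _ ((DerivedCategory.quotientCompQhIso C).hom.app J)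
  have h7 := CochainComplex.IsKInjective.Qh_map_bijective
    ((HomotopyCategory.quotient C (ComplexShape.up ℤ)).obj M) J
  have h8 : Function.Bijective (fun φ : (HomotopyCategory.quotient C (ComplexShape.up ℤ)).obj M ⟶
        (HomotopyCategory.quotient C (ComplexShape.up ℤ)).obj K => φ ≫ j') := by
    constructor
    · intro φ ψ hφψ
      rw [← sub_eq_zero]
      obtain ⟨f, hf⟩ := (HomotopyCategory.quotient C (ComplexShape.up ℤ)).map_surjective (φ - ψ)
      have h9 : (φ - ψ) ≫ j' = 0 := by
        rw [Preadditive.sub_comp, sub_eq_zero]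
        exact hφψ
      rw [← hf] at h9 ⊢
      refine quotient_map_eq_zero hM j hJ f ?_
      rw [Functor.map_comp]
      exact h9
    · intro ψ
      obtain ⟨g, rfl⟩ := (HomotopyCategory.quotient C (ComplexShape.up ℤ)).map_surjective ψ
      obtain ⟨f, hf⟩ := exists_factor hM j hJ g
      refine ⟨(HomotopyCategory.quotient C (ComplexShape.up ℤ)).map f, ?_⟩
      rw [← hf, Functor.map_comp]
  have h9 : (fun ψ : DerivedCategory.Qh.obj ((HomotopyCategory.quotient C (ComplexShape.up ℤ)).obj M) ⟶
      DerivedCategory.Qh.obj ((HomotopyCategory.quotient C (ComplexShape.up ℤ)).obj K) =>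
        ψ ≫ DerivedCategory.Qh.map j') ∘
      (fun φ : (HomotopyCategory.quotient C (ComplexShape.up ℤ)).obj M ⟶
        (HomotopyCategory.quotient C (ComplexShape.up ℤ)).obj K => DerivedCategory.Qh.map φ) =
      (DerivedCategory.Qh.map : ((HomotopyCategory.quotient C (ComplexShape.up ℤ)).obj M ⟶
        (HomotopyCategory.quotient C (ComplexShape.up ℤ)).obj J) → _) ∘ (fun φ => φ ≫ j') := by
    funext φ
    exact (DerivedCategory.Qh.map_comp φ j').symm
  have h10 := h7.comp h8
  rw [← h9] at h10
  have h11 : Function.Bijective (fun ψ : DerivedCategory.Qh.obj ((HomotopyCategory.quotient C (ComplexShape.up ℤ)).obj M) ⟶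
      DerivedCategory.Qh.obj ((HomotopyCategory.quotient C (ComplexShape.up ℤ)).obj K) =>
        ψ ≫ DerivedCategory.Qh.map j') := by
    constructor
    · intro a b hab
      exact (cancel_mono (DerivedCategory.Qh.map j')).1 hab
    · intro a
      exact ⟨a ≫ inv (DerivedCategory.Qh.map j'), by simp⟩
  exact (Function.Bijective.of_comp_iff' h11 _).1 h10

end

end K232.TopHom
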