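import Groth.Agent.DRing.K232.TopHom
import Mathlib.Algebra.Homology.DerivedCategory.Fractions

/-!
# Restatement of `TopHom` for the functor `Q`
-/

set_option autoImplicit false

universe v u w

open CategoryTheory Category Limits HomologicalComplex CochainComplex CochainComplex.HomComplex

namespace K232.TopHom

variable {C : Type u} [Category.{v} C] [Abelian C] [HasDerivedCategory.{w} C] [EnoughInjectives C]

section

variable (M K : CochainComplex C ℤ) (hM : ∀ i : ℤ, 0 < i → IsZero (M.X i))
    [Projective (M.X 0)] (hK : ∀ i : ℤ, i ≤ -2 → IsZero (K.X i))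

include hM hK in
/-- Morphisms `Q M ⟶ Q K` are induced by chain maps. -/
theorem exists_Q_map (f : DerivedCategory.Q.obj M ⟶ DerivedCategory.Q.obj K) :
    ∃ g : M ⟶ K, DerivedCategory.Q.map g = f := by
  obtain ⟨φ, hφ⟩ := (bijective_Qh_map M K hM hK).2 ((DerivedCategory.quotientCompQhIso C).hom.app M ≫ f ≫
    (DerivedCategory.quotientCompQhIso C).inv.app K)
  obtain ⟨g, rfl⟩ := (HomotopyCategory.quotient C (ComplexShape.up ℤ)).map_surjective φ
  refine ⟨g, ?_⟩
  have h := (DerivedCategory.quotientCompQhIso C).hom.naturality g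
  have h1 : DerivedCategory.Qh.map ((HomotopyCategory.quotient C (ComplexShape.up ℤ)).map g) =
    (DerivedCategory.quotientCompQhIso C).hom.app M ≫ f ≫
    (DerivedCategory.quotientCompQhIso C).inv.app K := hφ
  dsimp only [Functor.comp_map] at h
  rw [h1] at h
  rw [← cancel_epi ((DerivedCategory.quotientCompQhIso C).hom.app M), ← h]
  simp

include hM hK in
/-- A chain map vanishes in the derived category iff it is null-homotopic. -/
theorem Q_map_eq_zero_iff (g : M ⟶ K) : DerivedCategory.Q.map g = 0 ↔ Nonempty (Homotopy g 0) := by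
  constructor
  · intro h
    have h1 := (DerivedCategory.quotientCompQhIso C).hom.naturality g
    dsimp only [Functor.comp_map] at h1
    rw [h, comp_zero] at h1
    have h2 : DerivedCategory.Qh.map ((HomotopyCategory.quotient C (ComplexShape.up ℤ)).map g) = 0 := by
      rw [← cancel_mono ((DerivedCategory.quotientCompQhIso C).hom.app K)]
      exact h1.trans zero_comp.symm
    have h3 : (HomotopyCategory.quotient C (ComplexShape.up ℤ)).map g = 0 := by
      apply (bijective_Qh_map M K hM hK).1
      exact h2.trans (Functor.map_zero _ _ _).symm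
    exact ⟨HomotopyCategory.homotopyOfEq _ _ (by rw [h3, Functor.map_zero])⟩
  · rintro ⟨h⟩
    exact (DerivedCategory.Q_map_eq_of_homotopy C h).trans (Functor.map_zero _ _ _)

end

section ExtOne

variable (M K : CochainComplex C ℤ) (hM : ∀ i : ℤ, 0 < i → IsZero (M.X i))
    [Projective (M.X 0)] (hK : ∀ i : ℤ, i ≠ -1 → i ≠ 0 → IsZero (K.X i)) [Projective (K.X 0)] (a : M ⟶ K)

omit [HasDerivedCategory.{w} C] [EnoughInjectives C] in
lemma isZero_single (N : C) (i : ℤ) (hi : i ≤ -2) :
    IsZero (((CochainComplex.singleFunctor C (-1)).obj N).X i) :=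
  HomologicalComplex.isZero_single_obj_X (ComplexShape.up ℤ) (-1) N i (by omega)

omit [HasDerivedCategory.{w} C] [EnoughInjectives C] [Projective (M.X 0)] [Projective (K.X 0)] in
lemma homotopy_single (N : C) (g : K ⟶ (CochainComplex.singleFunctor C (-1)).obj N)
    (h : M.X 0 ⟶ K.X (-1)) (hh : a.f (-1) = M.d (-1) 0 ≫ h) : Nonempty (Homotopy (a ≫ g) 0) := by
  have hz : ∀ p : ℤ, p ≠ -1 → IsZero (((CochainComplex.singleFunctor C (-1)).obj N).X p) := fun p hp =>
    HomologicalComplex.isZero_single_obj_X (ComplexShape.up ℤ) (-1) N p hp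
  refine ⟨(Cochain.equivHomotopy _ _).symm ⟨Cochain.single (h ≫ g.f (-1)) (-1), ?_⟩⟩
  rw [Cochain.ofHom_zero, add_zero, Cochain.δ_single (h ≫ g.f (-1)) (-1) 0 (by simp) (-1) 0 (by simp) (by simp)]
  ext p
  by_cases hp : p = -1
  · subst hp
    rw [Cochain.ofHom_v, Cochain.add_v, Int.negOnePow_zero, one_smul, Cochain.single_v_eq_zero _ _ _ _ _ (by omega),
      zero_add, Cochain.single_v, HomologicalComplex.comp_f, hh, assoc]
  · exact (hz p hp).eq_of_tgt _ _

include hM hK in
/-- Precomposition with `a` kills `Ext¹(-, N)` for all `N` iff `a^{-1}` factors through the differential of `M`. -/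
theorem ext_one_zero_iff : (∀ (N : C) (ξ : DerivedCategory.Q.obj K ⟶
      DerivedCategory.Q.obj ((CochainComplex.singleFunctor C (-1)).obj N)), DerivedCategory.Q.map a ≫ ξ = 0) ↔
    ∃ h : M.X 0 ⟶ K.X (-1), a.f (-1) = M.d (-1) 0 ≫ h := by
  have hK1 : ∀ i : ℤ, 0 < i → IsZero (K.X i) := fun i hi => hK i (by omega) (by omega)
  constructor
  · intro H
    let g : K ⟶ (CochainComplex.singleFunctor C (-1)).obj (K.X (-1)) :=
      HomologicalComplex.mkHomToSingle (𝟙 (K.X (-1))) (fun i hi => by
        have h1 : i + 1 = -1 := hi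
        exact (hK i (by omega) (by omega)).eq_of_src _ _)
    have hg : g.f (-1) = (HomologicalComplex.singleObjXSelf (ComplexShape.up ℤ) (-1) (K.X (-1))).inv :=
      (HomologicalComplex.mkHomToSingle_f (𝟙 (K.X (-1))) _).trans (id_comp _)
    have h1 := H (K.X (-1)) (DerivedCategory.Q.map g)
    rw [← Functor.map_comp, Q_map_eq_zero_iff M _ hM (fun i hi => isZero_single _ i hi)] at h1
    obtain ⟨h1⟩ := h1
    obtain ⟨z, hz⟩ := Cochain.equivHomotopy _ _ h1
    rw [Cochain.ofHom_zero, add_zero] at hz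
    have h2 := Cochain.congr_v hz (-1) (-1) (by simp)
    rw [δ_v (-1) 0 (by simp) z (-1) (-1) (by simp) (-2) 0 (by simp) (by simp), Cochain.ofHom_v,
      HomologicalComplex.comp_f, hg] at h2
    have h3 : z.v (-1) (-2) (by simp) = 0 := (isZero_single _ (-2) le_rfl).eq_of_tgt _ _
    rw [h3, zero_comp, zero_add, Int.negOnePow_zero, one_smul] at h2
    refine ⟨z.v 0 (-1) (by simp) ≫ (HomologicalComplex.singleObjXSelf (ComplexShape.up ℤ) (-1) (K.X (-1))).hom, ?_⟩
    have h4 := congrArg (fun t => t ≫ (HomologicalComplex.singleObjXSelf (ComplexShape.up ℤ) (-1) (K.X (-1))).hom) h2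
    refine Eq.trans ?_ (h4.trans (assoc _ _ _))
    exact ((assoc _ _ _).trans ((congrArg (fun t => a.f (-1) ≫ t) (Iso.inv_hom_id _)).trans (comp_id _))).symm
  · rintro ⟨h, hh⟩ N ξ
    obtain ⟨g, rfl⟩ := exists_Q_map K _ hK1 (fun i hi => isZero_single N i hi) ξ
    rw [← Functor.map_comp, Q_map_eq_zero_iff M _ hM (fun i hi => isZero_single N i hi)]
    exact homotopy_single M K a N g h hh

end ExtOne

end K232.TopHom
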