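import Groth.Agent.LoccohB.BCMap
import Groth.Agent.CycA.TorDiag
import Groth.Prelude.Def_TrivBC

/-!
# Derived base change for tor independent squares

* `isIso_lbcQCounit_single_of_tor`: if `Tor_p^R(M, R') = 0` for `p ≥ 1` then `M[-n] ⊗^L_R R' = (M ⊗_R R')[-n]`.
* `isIso_bcm_of_tor`: the derived Beck–Chevalley map of a tor independent cocartesian square is an isomorphism.
* `isIso_cmp`: the same for `TrivBC.cmp`, for arbitrary adjunction data.
-/

set_option autoImplicit false

universe u

open CategoryTheory CategoryTheory.Limits CategoryTheory.Functor TensorProduct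

attribute [local instance] HasDerivedCategory.standard

namespace K232.TorBC

open DerivedCategory Groth.Agent.LoccohB Groth.Agent.LoccohB.LBC Groth.Agent.LoccohB.BCUnit
  Groth.Agent.LoccohB.BCMap Groth.Agent.LoccohB.BCFlat Groth.Agent.PerfC.AcyclicBdd
  Groth.Agent.CycA.TorBasic Groth.Agent.CycA.TorShift Groth.Agent

section Adapted

variable (R R' : Type u) [CommRing R] [CommRing R'] [Algebra R R']

/-- Modules `M` with `Tor_p^R(M, R') = 0` for all `p ≥ 1`. -/
def TorAc : ObjectProperty (ModuleCat.{u} R) := fun M =>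
  ∀ p : ℕ, 1 ≤ p → Subsingleton (DRing.Tor R p M R')

lemma torAc_of_flat (M : ModuleCat.{u} R) [Module.Flat R M] : TorAc R R' M := by
  intro p hp
  obtain ⟨q, rfl⟩ : ∃ q, p = q + 1 := ⟨p - 1, by omega⟩
  exact CycA.TorShift.subsingleton_of_flat_left (A := R) q (M : Type u) R'

lemma torAc_ker (S : ShortComplex (ModuleCat.{u} R)) (hS : S.ShortExact)
    (h₂ : TorAc R R' S.X₂) (h₃ : TorAc R R' S.X₃) : TorAc R R' S.X₁ := by
  intro p hp
  obtain ⟨δ, -, -, h3⟩ := exists_les (A := R) S.f.hom S.g.hom hS.moduleCat_injective_f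
    ((ShortComplex.ShortExact.moduleCat_exact_iff_function_exact _).1 hS.exact)
      hS.moduleCat_surjective_g R'
  refine subsingleton_of_forall_eq 0 fun x => ?_
  have := h₂ p hp
  have := h₃ (p + 1) (by omega)
  obtain ⟨y, rfl⟩ := (h3 p x).1 (Subsingleton.elim _ _)
  rw [Subsingleton.elim y 0, map_zero]

lemma torAc_ext (S : ShortComplex (ModuleCat.{u} R)) (hS : S.ShortExact)
    (h₁ : TorAc R R' S.X₁) (h₃ : TorAc R R' S.X₃) : TorAc R R' S.X₂ := by
  intro p hp
  obtain ⟨δ, h1, -, -⟩ := exists_les (A := R) S.f.hom S.g.hom hS.moduleCat_injective_f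
    ((ShortComplex.ShortExact.moduleCat_exact_iff_function_exact _).1 hS.exact)
      hS.moduleCat_surjective_g R'
  refine subsingleton_of_forall_eq 0 fun x => ?_
  have := h₁ p hp
  have := h₃ p hp
  obtain ⟨y, rfl⟩ := (h1 p x).1 (Subsingleton.elim _ _)
  rw [Subsingleton.elim y 0, map_zero]

lemma torAc_biprod (M N : ModuleCat.{u} R) (hM : TorAc R R' M) (hN : TorAc R R' N) :
    TorAc R R' (M ⊞ N) := by
  have h := (ShortComplex.Splitting.ofHasBinaryBiproduct M N).shortExact
  exact torAc_ext R R' (ShortComplex.mk (biprod.inl : M ⟶ M ⊞ N) biprod.snd (by simp)) h hM hN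

lemma torAc_isZero (M : ModuleCat.{u} R) (hM : IsZero M) : TorAc R R' M := by
  have := ModuleCat.subsingleton_of_isZero hM
  exact torAc_of_flat R R' M

/-- `Tor_1(X₃, R') = 0` implies that `X₁ ⊗ R' → X₂ ⊗ R'` is injective. -/
lemma lTensor_injective (S : ShortComplex (ModuleCat.{u} R)) (hS : S.ShortExact)
    (h₃ : TorAc R R' S.X₃) : Function.Injective (LinearMap.lTensor R' S.f.hom) := by
  obtain ⟨δ, -, -, h3⟩ := exists_les (A := R) S.f.hom S.g.hom hS.moduleCat_injective_f
    ((ShortComplex.ShortExact.moduleCat_exact_iff_function_exact _).1 hS.exact)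
      hS.moduleCat_surjective_g R'
  have s3 := h₃ 1 le_rfl
  have hr : Function.Injective (LinearMap.rTensor R' S.f.hom) := by
    rw [injective_iff_map_eq_zero]
    intro x hx
    have : mapL S.f.hom 0 R' ((zeroEquiv R S.X₁ R').symm x) = 0 := by
      apply (zeroEquiv R S.X₂ R').injective
      rw [zeroEquiv_mapL, LinearEquiv.apply_symm_apply, map_zero]
      exact hx
    obtain ⟨y, hy⟩ := (h3 0 _).1 this
    rw [Subsingleton.elim y 0, map_zero] at hy
    exact (LinearEquiv.symm_apply_eq _).1 hy.symm |>.trans (map_zero _)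
  exact LinearMap.lTensor_inj_iff_rTensor_inj R' S.f.hom |>.2 hr

/-- The class of Tor-acyclic modules is adapted to `R' ⊗_R -`. -/
theorem adapted_torAc : Adapted (ModuleCat.extendScalars.{u, u, u} (algebraMap R R')) (TorAc R R') where
  zero M hM := torAc_isZero R R' M hM
  ker S hS h₂ h₃ := torAc_ker R R' S hS h₂ h₃
  mono S hS h₃ := by
    rw [ModuleCat.mono_iff_injective]
    have h5 := lTensor_injective R R' S hS h₃
    have h6 : ⇑((ModuleCat.extendScalars.{u, u, u} (algebraMap R R')).map S.f).hom =
        (FlatLBC.extEquiv R R' _) ∘ (LinearMap.lTensor R' S.f.hom) ∘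
        (FlatLBC.extEquiv R R' _).symm := by
      funext x
      obtain ⟨t, rfl⟩ := (FlatLBC.extEquiv R R' _).surjective x
      dsimp only [Function.comp_apply]
      rw [LinearEquiv.symm_apply_apply]
      induction t using TensorProduct.induction_on with
      | zero => simp only [_root_.map_zero]
      | add x y hx hy => simp only [_root_.map_add, hx, hy]
      | tmul c m => rfl
    have h7 : Function.Injective ((ModuleCat.extendScalars.{u, u, u} (algebraMap R R')).map S.f).hom := by
      rw [h6]
      exact (FlatLBC.extEquiv R R' _).injective.comp (h5.comp (FlatLBC.extEquiv R R' _).symm.injective)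
    exact h7

/-- `M` Tor-acyclic: the derived base change of `M[-n]` is `(R' ⊗_R M)[-n]`. -/
theorem isIso_lbcQCounit_single_of_tor [DRing.HasLBaseChange (algebraMap R R')]
    (M : ModuleCat.{u} R) (hM : TorAc R R' M) (n : ℤ) :
    IsIso ((lbcQCounit (algebraMap R R')).app ((CochainComplex.singleFunctor _ n).obj M)) := by
  obtain ⟨F, p, h1, h2, h3, h4⟩ := exists_res R M n
  refine isIso_lbcQCounit_of_res (algebraMap R R') p ?_
  have hz : ∀ i, n < i → IsZero (((CochainComplex.singleFunctor (ModuleCat.{u} R) n).obj M).X i) :=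
    fun i hi => HomologicalComplex.isZero_single_obj_X (ComplexShape.up ℤ) n M i (by lia)
  refine (adapted_torAc R R').quasiIso_map (torAc_biprod R R') p n h3 hz ?_ ?_
  · intro i
    have h5 : Module.Projective R (F.X i) := (IsProjective.iff_projective (R := R) (F.X i)).2 (h4 i)
    exact torAc_of_flat R R' _
  · intro i
    by_cases hi : i = n
    · subst hi
      exact (adapted_torAc R R').of_iso
        (HomologicalComplex.singleObjXSelf (ComplexShape.up ℤ) i M).symm hM
    · exact torAc_isZero R R' _ (HomologicalComplex.isZero_single_obj_X (ComplexShape.up ℤ) n M i hi)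

end Adapted

section Square

variable (R A R' A' : Type u) [CommRing R] [CommRing A] [CommRing R'] [CommRing A']
    [Algebra R A] [Algebra R R'] [Algebra A A'] [Algebra R' A'] [Algebra R A'] [IsScalarTower R A A']
    [IsScalarTower R R' A']

lemma torAc_restrict (htor : ∀ p : ℕ, 1 ≤ p → Subsingleton (DRing.Tor R p A R')) :
    TorAc R R' ((ModuleCat.restrictScalars.{u} (algebraMap R A)).obj (ModuleCat.of A A)) := by
  intro p hp
  let e : ((ModuleCat.restrictScalars.{u} (algebraMap R A)).obj (ModuleCat.of A A) : Type u) ≃ₗ[R] A :=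
    { toFun := fun x => x
      invFun := fun x => x
      left_inv := fun _ => rfl
      right_inv := fun _ => rfl
      map_add' := fun _ _ => rfl
      map_smul' := fun r x => (Algebra.smul_def r (show A from x)).symm }
  have := htor p hp
  exact (congrL e p R').toEquiv.subsingleton

/-- The derived Beck–Chevalley map of a tor independent cocartesian square is an isomorphism. -/
theorem isIso_bcm_of_tor [Algebra.IsPushout R A R' A']
    (htor : ∀ p : ℕ, 1 ≤ p → Subsingleton (DRing.Tor R p A R'))
    [DRing.HasLBaseChange (algebraMap R R')] [DRing.HasLBaseChange (algebraMap A A')] :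
    IsIso (bcm R R' A A') := by
  have hp : Algebra.IsPushout R R' A A' := Algebra.IsPushout.symm inferInstance
  refine isIso_bcm_of_sg R R' A A' (fun n => ?_)
  refine isIso_app_of_iso (bcm R R' A A')
    ((singleFunctorIsoCompQ (ModuleCat.{u} A) n).symm.app (ModuleCat.of A A)) ?_
  refine isIso_bcm_Q R R' A A' ((CochainComplex.singleFunctor _ n).obj (ModuleCat.of A A)) ?_ ?_
  · infer_instance
  · refine isIso_app_of_iso (lbcQCounit (algebraMap R R'))
      (resSingle (algebraMap R A) (ModuleCat.of A A) n).symm ?_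
    exact isIso_lbcQCounit_single_of_tor R R' _ (torAc_restrict R A R' htor) n

end Square

section Cmp

variable {R A R' A' : Type u} [CommRing R] [CommRing A] [CommRing R'] [CommRing A']
    [Algebra R A] [Algebra R R'] [Algebra A A'] [Algebra R' A'] [Algebra R A'] [IsScalarTower R A A']
    [IsScalarTower R R' A']

lemma liftingRes₂_iso_hom_app {B C E : Type u} [CommRing B] [CommRing C] [CommRing E] (g : C →+* E) (f : B →+* C)
    (K : CochainComplex (ModuleCat.{u} E) ℤ) :
    (TrivBC.liftingRes₂ g f).iso.hom.app K =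
      (fac₂ (ModuleCat.restrictScalars.{u} g) (ModuleCat.restrictScalars.{u} f) K).hom := by
  have h : (TrivBC.liftingRes₂ g f).iso = (Functor.associator _ _ _).symm ≪≫
    Functor.isoWhiskerRight (ModuleCat.restrictScalars.{u} g).mapDerivedCategoryFactors _ ≪≫
      Functor.associator _ _ _ ≪≫
        Functor.isoWhiskerLeft _ (ModuleCat.restrictScalars.{u} f).mapDerivedCategoryFactors := rfl
  rw [h]
  dsimp only [fac₂, Iso.trans_hom, NatTrans.comp_app, Iso.symm_hom, Functor.associator_inv_app,
    Functor.associator_hom_app, Functor.isoWhiskerRight_hom, Functor.isoWhiskerLeft_hom, Functor.whiskerRight_app,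
    Functor.whiskerLeft_app, Functor.mapIso_hom, Iso.app_hom]
  refine (Category.id_comp _).trans ?_
  exact congrArg (fun t => _ ≫ t) (Category.id_comp _)

lemma resComm_hom_app_Q (h : (algebraMap A A').comp (algebraMap R A) = (algebraMap R' A').comp (algebraMap R R'))
    (K : CochainComplex (ModuleCat.{u} A') ℤ) :
    (TrivBC.resComm h).hom.app (Q.obj K) = (kap R R' A A').hom.app (Q.obj K) := by
  rw [kap_hom_app_Q]
  have h1 := @Localization.liftNatTrans_app _ _ _ _ (DerivedCategory.Q (C := ModuleCat.{u} A'))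
    (HomologicalComplex.quasiIso (ModuleCat.{u} A') (ComplexShape.up ℤ)) _ _ _ _ _ _ _
    (TrivBC.liftingRes₂ (algebraMap A A') (algebraMap R A))
    (TrivBC.liftingRes₂ (algebraMap R' A') (algebraMap R R')) (TrivBC.resCommCx h).hom K
  refine h1.trans ?_
  have h2 := liftingRes₂_iso_hom_app (algebraMap A A') (algebraMap R A) K
  have h3 := liftingRes₂_iso_hom_app (algebraMap R' A') (algebraMap R R') K
  have h4 : (TrivBC.liftingRes₂ (algebraMap R' A') (algebraMap R R')).iso.inv.app K =
      (fac₂ (ModuleCat.restrictScalars.{u} (algebraMap R' A'))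
        (ModuleCat.restrictScalars.{u} (algebraMap R R')) K).inv := by
    rw [← cancel_epi ((fac₂ (ModuleCat.restrictScalars.{u} (algebraMap R' A'))
        (ModuleCat.restrictScalars.{u} (algebraMap R R')) K).hom)]
    rw [Iso.hom_inv_id]
    rw [← h3]
    exact Iso.hom_inv_id_app _ _
  have h5 : (TrivBC.resCommCx h).hom.app K = Q.map (kapCx R R' A A' K).hom := by
    dsimp only [TrivBC.resCommCx, Iso.trans_hom, NatTrans.comp_app, Iso.symm_hom, Functor.associator_inv_app,
    Functor.associator_hom_app, Functor.isoWhiskerRight_hom, Functor.isoWhiskerLeft_hom, Functor.whiskerRight_app,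
    Functor.whiskerLeft_app, Functor.mapIso_hom, Iso.app_hom]
    refine (Category.id_comp _).trans ((Category.comp_id _).trans ?_)
    refine congrArg (fun t => Q.map t) ?_
    ext i x
    rfl
  rw [h2, h4, h5]

lemma resComm_hom (h : (algebraMap A A').comp (algebraMap R A) = (algebraMap R' A').comp (algebraMap R R')) :
    (TrivBC.resComm h).hom = (kap R R' A A').hom :=
  Localization.natTrans_ext (DerivedCategory.Q (C := ModuleCat.{u} A'))
    (HomologicalComplex.quasiIso (ModuleCat.{u} A') (ComplexShape.up ℤ)) (fun K => resComm_hom_app_Q h K)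

variable [DRing.HasLBaseChange (algebraMap R R')] [DRing.HasLBaseChange (algebraMap A A')]

/-- `TrivBC.cmp` for the standard adjunctions is the Beck–Chevalley map `bcm`. -/
lemma cmp_lbcAdj (h : (algebraMap A A').comp (algebraMap R A) = (algebraMap R' A').comp (algebraMap R R'))
    (K : Dual.D A) :
    TrivBC.cmp (lbcAdj (algebraMap R R')) (lbcAdj (algebraMap A A')) h K = (bcm R R' A A').app K := by
  dsimp only [TrivBC.cmp, bcm, preBcm]
  rw [resComm_hom h]
  rfl

lemma leftAdjointUniq_symm {𝒞 𝒟 : Type*} [Category* 𝒞] [Category* 𝒟] {L L' : 𝒞 ⥤ 𝒟} {G : 𝒟 ⥤ 𝒞} (adj : L ⊣ G)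
    (adj' : L' ⊣ G) {X : 𝒞} {Y : 𝒟} (f : X ⟶ G.obj Y) :
    (adj.homEquiv _ _).symm f = (adj.leftAdjointUniq adj').hom.app X ≫ (adj'.homEquiv _ _).symm f := by
  rw [Adjunction.homEquiv_counit, Adjunction.homEquiv_counit]
  rw [← Category.assoc, ← (adj.leftAdjointUniq adj').hom.naturality, Category.assoc,
    Adjunction.leftAdjointUniq_hom_app_counit]

omit [Algebra R A'] [IsScalarTower R A A'] [IsScalarTower R R' A'] in
/-- `TrivBC.cmp` for arbitrary adjunctions differs from the standard one by isomorphisms. -/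
lemma isIso_cmp_iff (adjρ adjρ' : DRing.LBaseChange (algebraMap R R') ⊣ DRing.restrictD (algebraMap R R'))
    (adjα adjα' : DRing.LBaseChange (algebraMap A A') ⊣ DRing.restrictD (algebraMap A A'))
    (h : (algebraMap A A').comp (algebraMap R A) = (algebraMap R' A').comp (algebraMap R R'))
    (K : Dual.D A) : IsIso (TrivBC.cmp adjρ adjα h K) ↔ IsIso (TrivBC.cmp adjρ' adjα' h K) := by
  have key : TrivBC.cmp adjρ adjα h K = (adjρ.leftAdjointUniq adjρ').hom.app _ ≫ TrivBC.cmp adjρ' adjα' h K ≫
      (DRing.restrictD (algebraMap R' A')).map ((adjα'.leftAdjointUniq adjα).hom.app K) := by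
    dsimp only [TrivBC.cmp]
    rw [leftAdjointUniq_symm adjρ adjρ']
    refine congrArg (fun t => _ ≫ t) ?_
    apply (adjρ'.homEquiv _ _).injective
    rw [Adjunction.homEquiv_naturality_right, Equiv.apply_symm_apply, Equiv.apply_symm_apply]
    have h1 := (TrivBC.resComm h).hom.naturality ((adjα'.leftAdjointUniq adjα).hom.app K)
    have h2 := Adjunction.unit_leftAdjointUniq_hom_app adjα' adjα K
    rw [← h2, Functor.map_comp, Category.assoc, Category.assoc]
    exact congrArg (fun t => _ ≫ t) h1
  rw [key]
  constructor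
  · intro h1
    have h2 := IsIso.of_isIso_comp_left ((adjρ.leftAdjointUniq adjρ').hom.app _) (TrivBC.cmp adjρ' adjα' h K ≫
      (DRing.restrictD (algebraMap R' A')).map ((adjα'.leftAdjointUniq adjα).hom.app K))
    exact IsIso.of_isIso_comp_right (TrivBC.cmp adjρ' adjα' h K)
      ((DRing.restrictD (algebraMap R' A')).map ((adjα'.leftAdjointUniq adjα).hom.app K))
  · intro h1
    infer_instance

/-- **Base change for tor independent cocartesian squares of rings**. -/
theorem isIso_cmp [Algebra.IsPushout R A R' A']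
    (htor : ∀ p : ℕ, 1 ≤ p → Subsingleton (DRing.Tor R p A R'))
    (adjρ : DRing.LBaseChange (algebraMap R R') ⊣ DRing.restrictD (algebraMap R R'))
    (adjα : DRing.LBaseChange (algebraMap A A') ⊣ DRing.restrictD (algebraMap A A'))
    (h : (algebraMap A A').comp (algebraMap R A) = (algebraMap R' A').comp (algebraMap R R'))
    (K : Dual.D A) : IsIso (TrivBC.cmp adjρ adjα h K) := by
  rw [isIso_cmp_iff adjρ (lbcAdj (algebraMap R R')) adjα (lbcAdj (algebraMap A A')) h K, cmp_lbcAdj]
  have := isIso_bcm_of_tor R A R' A' htor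
  infer_instance

end Cmp

end K232.TorBC
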