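import Groth.Agent.DRing.K232.ComplTen
import Groth.Agent.DRing.K227.TorCrit
import Groth.Agent.DRing.K230.LTenQuot
import Groth.Agent.Dcoh.TensSingle
import Groth.Agent.Cohder.SESInj

/-!
# Tor amplitude in `[a, ∞)` and K-flat complexes of flat modules in degrees `≥ a`
-/

set_option autoImplicit false

universe u

open CategoryTheory CategoryTheory.Limits MonoidalCategory

attribute [local instance] HasDerivedCategory.standard

namespace K232.TorGE

open DRing Groth.Agent.LoccohB Groth.Agent.LoccohB.LTen K232.KFlatTen K227.TorCrit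
  Groth.Agent.Dcoh.KFlatAbs Groth.Agent.PerfB.RingKFlat

variable {A : Type u} [CommRing A]

lemma isKFlat_iff (E : Cx A) : IsKFlat A E ↔ KFl (TR A) E := K226.KFlat.isKF_iff E

/-- `M[0] ⊗ E ≅ E ⊗ M` termwise. -/
noncomputable def singleTen (E : Cx A) (M : ModuleCat.{u} A) :
    (((CochainComplex.singleFunctor (ModuleCat.{u} A) 0).obj M : Cx A) ⊗ E : Cx A) ≅ tensorCx E M :=
  K226.KFlat.tensorSymm ((CochainComplex.singleFunctor (ModuleCat.{u} A) 0).obj M) E ≪≫
    ((Groth.Agent.Dcoh.TensSingle.singleRightIso (TR A) M).app E).symm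

/-- `M ⊗ᴸ K` computed by a K-flat representative of `K`. -/
theorem subsingleton_iff_exactAt (K : Cx A) [HasLTensorCx A K] (E : Cx A) (hE : IsKFlat A E)
    (e : toD E ≅ toD K) (M : ModuleCat.{u} A) (i : ℤ) :
    Subsingleton (Dual.HD A ((LTensorCx A K).obj
      (toD ((CochainComplex.singleFunctor (ModuleCat.{u} A) 0).obj M))) i) ↔ (tensorCx E M).ExactAt i := by
  have : HasLTensorCx A E := hasLTensorCx E
  obtain ⟨e1⟩ := ltenCongr (E := K) (E' := E) e.symm
  have := isIso_counit_of_kflat E hE ((CochainComplex.singleFunctor (ModuleCat.{u} A) 0).obj M)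
  let e2 : (LTensorCx A K).obj (toD ((CochainComplex.singleFunctor (ModuleCat.{u} A) 0).obj M)) ≅
      toD (tensorCx E M) :=
    e1.app _ ≪≫ asIso ((ltenCounit E).app ((CochainComplex.singleFunctor (ModuleCat.{u} A) 0).obj M)) ≪≫
      DerivedCategory.Q.mapIso (singleTen E M)
  rw [exactAt_iff_subsingleton_HD]
  exact ⟨subsingleton_HD_of_iso e2 i, subsingleton_HD_of_iso e2.symm i⟩

lemma flat_left_of_shortExact {S : ShortComplex (ModuleCat.{u} A)} (hS : S.ShortExact)
    (h₂ : Module.Flat A S.X₂) (h₃ : Module.Flat A S.X₃) : Module.Flat A S.X₁ :=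
  @Groth.Agent.Ega3A.FlatSES.flat_left _ _ _ _ _ _ _ _ _ _ _ _ _ hS.moduleCat_injective_f
      ((ShortComplex.ShortExact.moduleCat_exact_iff_function_exact _).1 hS.exact)
      hS.moduleCat_surjective_g h₂ h₃

/-- The short exact sequence `0 → N → P → τ_{≥ a} P → 0`. -/
noncomputable abbrev truncSES (P : Cx A) (a : ℤ) : ShortComplex (Cx A) :=
  ShortComplex.mk (kernel.ι (P.πTruncGE a)) (P.πTruncGE a) (kernel.condition _)

instance epi_πTruncGE (P : Cx A) (a : ℤ) : Epi (P.πTruncGE a) :=
  inferInstanceAs (Epi (HomologicalComplex.πTruncGE P (ComplexShape.embeddingUpIntGE a)))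

lemma truncSES_shortExact (P : Cx A) (a : ℤ) : (truncSES P a).ShortExact where
  exact := ShortComplex.exact_kernel _
  mono_f := by dsimp; infer_instance
  epi_g := epi_πTruncGE P a

lemma termwiseFlat_truncGE (P : Cx A) (hPf : TermwiseFlat P) (a : ℤ)
    (hflat : Module.Flat A (P.opcycles a)) : TermwiseFlat (P.truncGE a) := by
  intro i
  rcases lt_trichotomy i a with h | h | h
  · have := ModuleCat.subsingleton_of_isZero
      (CochainComplex.isZero_of_isStrictlyGE (P.truncGE a) a i h)
    infer_instance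
  · subst h
    exact Module.Flat.of_linearEquiv (P.truncGEXIsoOpcycles i).toLinearEquiv
  · have := hPf i
    exact Module.Flat.of_linearEquiv (P.truncGEXIso a i h).toLinearEquiv

lemma truncSES_shortExact_eval (P : Cx A) (a i : ℤ) :
    ((truncSES P a).map (HomologicalComplex.eval (ModuleCat.{u} A) (ComplexShape.up ℤ) i)).ShortExact :=
  (truncSES_shortExact P a).map_of_exact _

lemma vanishesAbove_ker (P : Cx A) (a : ℤ) : VanishesAbove (truncSES P a).X₁ a := fun i hi => by
  have h2 : IsIso ((P.πTruncGE a).f i) := Groth.Agent.Cohder.SESInj.isIso_πTruncGE_f P a i hi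
  have h3 := (truncSES_shortExact_eval P a i).mono_f
  have h4 : (kernel.ι (P.πTruncGE a)).f i ≫ (P.πTruncGE a).f i = 0 := by
    rw [← HomologicalComplex.comp_f, kernel.condition]
    rfl
  have h5 : (kernel.ι (P.πTruncGE a)).f i = 0 := (cancel_mono ((P.πTruncGE a).f i)).1 (h4.trans zero_comp.symm)
  exact IsZero.of_mono_eq_zero (C := ModuleCat.{u} A) _ h5

lemma termwiseFlat_ker (P : Cx A) (hPf : TermwiseFlat P) (a : ℤ) (hT : TermwiseFlat (P.truncGE a)) :
    TermwiseFlat (truncSES P a).X₁ := fun i =>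
  flat_left_of_shortExact (truncSES_shortExact_eval P a i) (hPf i) (hT i)

/-- Canonical truncation of a K-flat complex of flat modules. -/
theorem kflat_truncGE (P : Cx A) (hP : IsKFlat A P) (hPf : TermwiseFlat P) (a : ℤ)
    (hflat : Module.Flat A (P.opcycles a)) :
    IsKFlat A (P.truncGE a) ∧ TermwiseFlat (P.truncGE a) := by
  have hT := termwiseFlat_truncGE P hPf a hflat
  have hP' : KFl (TR A) (truncSES P a).X₂ := (isKFlat_iff P).1 hP
  have hS := truncSES_shortExact P a
  have h1 : KFl (TR A) (truncSES P a).X₁ :=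
    K226.KFlat.kfl_of_boundedAbove _ a (vanishesAbove_ker P a) (termwiseFlat_ker P hPf a hT)
  have h2 : KFl (TR A) (truncSES P a).X₃ := K226.KFlat.kfl_ses₃ (S := truncSES P a) hS hT h1 hP'
  exact ⟨(isKFlat_iff (P.truncGE a)).2 h2, hT⟩

/-- **Tor amplitude in `[a, ∞)`**. -/
theorem torGE_iff (a : ℤ) (K : Cx A) [HasLTensorCx A K] :
    (∀ (M : ModuleCat.{u} A) (i : ℤ), i < a →
        Subsingleton (Dual.HD A ((LTensorCx A K).obj
          (toD ((CochainComplex.singleFunctor (ModuleCat.{u} A) 0).obj M))) i)) ↔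
      ∃ E : Cx A, IsKFlat A E ∧ TermwiseFlat E ∧ (∀ i : ℤ, i < a → IsZero (E.X i)) ∧ Nonempty (toD E ≅ toD K) := by
  constructor
  · intro H
    obtain ⟨F, c, hc, -, hF, hFf⟩ := K226.KFlat.exists_resolution K
    have hF' : IsKFlat A F := (isKFlat_iff F).2 hF
    have e : toD F ≅ toD K := asIso (DerivedCategory.Q.map c)
    have hex : ∀ (M : ModuleCat.{u} A) (i : ℤ), i < a → (tensorCx F M).ExactAt i := fun M i hi =>
      (subsingleton_iff_exactAt K F hF' e M i).1 (H M i hi)
    have hcok := flat_cok_of_tensor F hFf (g := a - 2) (h := a - 1) (a := a) (by omega) (by omega)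
      (fun M => hex M (a - 1) (by omega))
    have hop : Module.Flat A (F.opcycles a) := by
      obtain ⟨e1⟩ := Groth.Agent.Flat2C.TorAmpRestr.nonempty_opcycles_equiv F (show a - 1 + 1 = a by omega)
      exact Module.Flat.of_linearEquiv e1
    obtain ⟨h1, h2⟩ := kflat_truncGE F hF' hFf a hop
    have hGE : F.IsGE a := by
      rw [CochainComplex.isGE_iff]
      intro i hi
      exact exactAt_of_tensorCx_self F i (hex _ i hi)
    exact ⟨F.truncGE a, h1, h2, fun i hi => CochainComplex.isZero_of_isStrictlyGE _ a i hi,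
      ⟨(asIso (DerivedCategory.Q.map (F.πTruncGE a))).symm ≪≫ e⟩⟩
  · rintro ⟨E, hE, hEf, hE0, ⟨e⟩⟩ M i hi
    rw [subsingleton_iff_exactAt K E hE e M i, HomologicalComplex.exactAt_iff]
    apply ShortComplex.exact_of_isZero_X₂
    exact (tensorRight M).map_isZero (hE0 i hi)

end K232.TorGE
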